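import Mathlib
import Cfsg.Agent.Lib.Involution.Basic

/-!
Counting the pairs of involutions by their product.
-/

set_option autoImplicit false

namespace Cfsg.Agent.Lib.PSLSpectrum

open Cfsg.Agent.Lib

variable {G : Type*} [Group G] [Fintype G] [DecidableEq G]

/-- The involutions of a group, as a finite set. -/
noncomputable def invols : Finset G := Finset.univ.filter fun i => orderOf i = 2

omit [DecidableEq G] in
theorem mem_invols {i : G} : i ∈ invols ↔ orderOf i = 2 := by simp [invols]

/-- The number of ways to write `y` as a product of two involutions. -/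
noncomputable def J (y : G) : ℕ := ((invols (G := G)).filter fun i => orderOf (i * y) = 2).card

omit [DecidableEq G] in
theorem sum_J : ∑ y : G, J y = (invols (G := G)).card * (invols (G := G)).card := by
  simp only [J, Finset.card_filter]
  rw [Finset.sum_comm]
  rw [Finset.sum_congr rfl (fun i _ => Fintype.sum_equiv (Equiv.mulLeft i)
    (fun y => if orderOf (i * y) = 2 then 1 else 0) (fun z => if orderOf z = 2 then 1 else 0)
    (fun _ => rfl)), Finset.sum_const, smul_eq_mul, ← Finset.card_filter]
  rfl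

omit [DecidableEq G] in
theorem J_one : J (1 : G) = (invols (G := G)).card := by
  unfold J
  rw [Finset.filter_true_of_mem]
  intro i hi
  rwa [mul_one, ← mem_invols]

omit [DecidableEq G] in
theorem inverts_of_pair {i y : G} (hi : orderOf i = 2) (hiy : orderOf (i * y) = 2) :
    i * y * i⁻¹ = y⁻¹ := by
  have h1 := Involution.mul_self_eq_one hi
  have h2 := Involution.mul_self_eq_one hiy
  rw [Involution.inv_eq_self h1]
  refine eq_inv_of_mul_eq_one_left ?_
  rw [← h2]
  group

omit [DecidableEq G] in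
theorem exists_of_J_ne_zero {y : G} (h : J y ≠ 0) :
    ∃ i : G, orderOf i = 2 ∧ orderOf (i * y) = 2 ∧ i * y * i⁻¹ = y⁻¹ := by
  obtain ⟨i, hi⟩ := Finset.card_ne_zero.1 h
  rw [Finset.mem_filter, mem_invols] at hi
  exact ⟨i, hi.1, hi.2, inverts_of_pair hi.1 hi.2⟩

omit [DecidableEq G] in
theorem J_le_centralizer (y : G) : J y ≤ Nat.card (Subgroup.centralizer ({y} : Set G)) := by
  classical
  by_cases h : J y = 0
  · omega
  obtain ⟨i₀, -, -, hi₀⟩ := exists_of_J_ne_zero h
  rw [show Nat.card (Subgroup.centralizer ({y} : Set G)) =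
      (Finset.univ.filter fun c : G => c * y = y * c).card by
    rw [← Fintype.card_subtype, Nat.card_eq_fintype_card]
    exact Fintype.card_congr (Equiv.subtypeEquivRight fun c => Subgroup.mem_centralizer_singleton_iff)]
  unfold J
  refine Finset.card_le_card_of_injOn (fun i => i₀⁻¹ * i) ?_ (fun a _ b _ hab => mul_left_cancel hab)
  intro i hi
  rw [Finset.mem_coe, Finset.mem_filter, mem_invols] at hi
  rw [Finset.mem_coe, Finset.mem_filter]
  refine ⟨Finset.mem_univ _, ?_⟩
  have h1 := inverts_of_pair hi.1 hi.2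
  show i₀⁻¹ * i * y = y * (i₀⁻¹ * i)
  calc i₀⁻¹ * i * y = i₀⁻¹ * (i * y * i⁻¹) * i := by group
    _ = i₀⁻¹ * (i₀ * y * i₀⁻¹) * i := by rw [h1, hi₀]
    _ = y * (i₀⁻¹ * i) := by group

omit [DecidableEq G] in
/-- The products lying in a set of real non-involutions whose classes all meet `Y` are at most
`|G| |Y| / 2` in number. -/
theorem two_sum_le (A Y : Finset G)
    (h : ∀ y ∈ A, J y ≠ 0 → y * y ≠ 1 ∧ ∃ g : G, g * y * g⁻¹ ∈ Y ∧ (g * y * g⁻¹)⁻¹ ∈ Y) :
    2 * ∑ y ∈ A, J y ≤ Fintype.card G * Y.card := by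
  classical
  let T : G → Finset G := fun y => Finset.univ.filter fun g => g * y * g⁻¹ ∈ Y
  have key : ∀ y ∈ A, 2 * J y ≤ (T y).card := by
    intro y hy
    by_cases hJ : J y = 0
    · simp [hJ]
    obtain ⟨hsq, g, hg, hg'⟩ := h y hy hJ
    obtain ⟨i, -, -, hinv⟩ := exists_of_J_ne_zero hJ
    let C : Finset G := Finset.univ.filter fun c : G => c * y = y * c
    have hC : J y ≤ C.card := by
      refine (J_le_centralizer y).trans (le_of_eq ?_)
      rw [← Fintype.card_subtype, Nat.card_eq_fintype_card]
      exact Fintype.card_congr (Equiv.subtypeEquivRight fun c => Subgroup.mem_centralizer_singleton_iff)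
    have hCy : ∀ c ∈ C, c * y * c⁻¹ = y := fun c hc => by
      rw [(Finset.mem_filter.1 hc).2, mul_inv_cancel_right]
    have hdisj : Disjoint (C.image (g * ·)) (C.image (g * i * ·)) := by
      rw [Finset.disjoint_left]
      rintro a ha ha'
      obtain ⟨c, hc, rfl⟩ := Finset.mem_image.1 ha
      obtain ⟨d, hd, hde⟩ := Finset.mem_image.1 ha'
      refine hsq ?_
      have hi : i = c * d⁻¹ := by
        rw [mul_assoc] at hde
        rw [← mul_left_cancel hde]
        group
      have hdy : d⁻¹ * y * d = y := by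
        calc d⁻¹ * y * d = d⁻¹ * (d * y * d⁻¹) * d := by rw [hCy d hd]
          _ = y := by group
      have : y⁻¹ = y := by
        rw [← hinv, hi]
        calc c * d⁻¹ * y * (c * d⁻¹)⁻¹ = c * (d⁻¹ * y * d) * c⁻¹ := by group
          _ = y := by rw [hdy, hCy c hc]
      calc y * y = y * y⁻¹ := by rw [this]
        _ = 1 := mul_inv_cancel y
    have hsub : C.image (g * ·) ∪ C.image (g * i * ·) ⊆ T y := by
      intro a ha
      refine Finset.mem_filter.2 ⟨Finset.mem_univ _, ?_⟩
      rcases Finset.mem_union.1 ha with ha | ha <;> obtain ⟨c, hc, rfl⟩ := Finset.mem_image.1 ha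
      · rwa [show g * c * y * (g * c)⁻¹ = g * (c * y * c⁻¹) * g⁻¹ by group, hCy c hc]
      · rwa [show g * i * c * y * (g * i * c)⁻¹ = g * (i * (c * y * c⁻¹) * i⁻¹) * g⁻¹ by group,
          hCy c hc, hinv, show g * y⁻¹ * g⁻¹ = (g * y * g⁻¹)⁻¹ by group]
    have := Finset.card_le_card hsub
    rw [Finset.card_union_of_disjoint hdisj, Finset.card_image_of_injective _ (mul_right_injective _),
      Finset.card_image_of_injective _ (mul_right_injective _)] at this
    omega
  rw [Finset.mul_sum]
  refine (Finset.sum_le_sum key).trans ?_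
  rw [← Finset.card_sigma, ← Finset.card_univ, ← Finset.card_product]
  refine Finset.card_le_card_of_injOn (fun a => (a.2, a.2 * a.1 * a.2⁻¹)) ?_ ?_
  · intro a ha
    rw [Finset.mem_coe, Finset.mem_sigma] at ha
    exact Finset.mem_product.2 ⟨Finset.mem_univ _, (Finset.mem_filter.1 ha.2).2⟩
  · rintro ⟨a, g⟩ - ⟨b, k⟩ - hab
    simp only [Prod.mk.injEq] at hab
    obtain ⟨rfl, hab⟩ := hab
    simpa using hab

end Cfsg.Agent.Lib.PSLSpectrum
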