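import Cfsg.Agent.Lib.PSLSpectrum.Dihedral
import Cfsg.Agent.Lib.PSLSpectrum.Pairs
import Cfsg.Agent.Lib.CharCount.InvertingInvolution
import Cfsg.Agent.Lib.BSW.Main

/-!
The Sylow `p`-subgroups of a group with the order and element orders of `PSL₂(q)`, `q = p^f` odd,
are abelian: either an involution inverts one of them, or counting pairs of involutions by their
product gives a centraliser of an involution of dihedral type and the theorem of Brauer, Suzuki
and Wall applies.
-/

set_option autoImplicit false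

namespace Cfsg.Agent.Lib.PSLSpectrum

open Cfsg.Agent.Lib

variable {G : Type*} [Group G] [Finite G] {p q e o : ℕ}

theorem sylow_isMulCommutative_of_one [Fact p.Prime] (P : Sylow p G)
    (hP : IsMulCommutative (P : Subgroup G)) (Q : Sylow p G) :
    IsMulCommutative (Q : Subgroup G) := by
  haveI := hP
  obtain ⟨g, rfl⟩ := MulAction.exists_smul_eq G P Q
  rw [Sylow.coe_subgroup_smul]
  refine ⟨⟨fun ⟨a, ha⟩ ⟨b, hb⟩ => ?_⟩⟩
  obtain ⟨a', ha', rfl⟩ := ha
  obtain ⟨b', hb', rfl⟩ := hb
  refine Subtype.ext ?_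
  have hab : a' * b' = b' * a' := congrArg Subtype.val (mul_comm' (⟨a', ha'⟩ : (P : Subgroup G)) ⟨b', hb'⟩)
  change g * a' * g⁻¹ * (g * b' * g⁻¹) = g * b' * g⁻¹ * (g * a' * g⁻¹)
  calc g * a' * g⁻¹ * (g * b' * g⁻¹) = g * (a' * b') * g⁻¹ := by group
    _ = g * (b' * a') * g⁻¹ := by rw [hab]
    _ = g * b' * g⁻¹ * (g * a' * g⁻¹) := by group

theorem strictMono_key {a b : ℕ} (hb : 1 ≤ b) (h : a * (a + 1) * (a - 1) = b * (b + 1) * (b - 1))
    (hb2 : 2 ≤ b) : a = b := by
  rcases Nat.lt_trichotomy a b with hlt | heq | hgt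
  · exfalso
    have h1 : a * (a + 1) ≤ b * (b + 1) := Nat.mul_le_mul (by omega) (by omega)
    have h2 : a * (a + 1) * (a - 1) ≤ b * (b + 1) * (a - 1) := Nat.mul_le_mul_right _ h1
    have h3 : b * (b + 1) * (a - 1) < b * (b + 1) * (b - 1) :=
      Nat.mul_lt_mul_of_pos_left (by omega) (Nat.mul_pos (by omega) (by omega))
    omega
  · exact heq
  · exfalso
    have h1 : b * (b + 1) ≤ a * (a + 1) := Nat.mul_le_mul (by omega) (by omega)
    have h2 : b * (b + 1) * (b - 1) ≤ a * (a + 1) * (b - 1) := Nat.mul_le_mul_right _ h1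
    have h3 : a * (a + 1) * (b - 1) < a * (a + 1) * (a - 1) :=
      Nat.mul_lt_mul_of_pos_left (by omega) (Nat.mul_pos (by omega) (by omega))
    omega

theorem conj_inverts {i y : G} (g : G) (h : i * y * i⁻¹ = y⁻¹) :
    (g * i * g⁻¹) * (g * y * g⁻¹) * (g * i * g⁻¹)⁻¹ = (g * y * g⁻¹)⁻¹ := by
  calc (g * i * g⁻¹) * (g * y * g⁻¹) * (g * i * g⁻¹)⁻¹ = g * (i * y * i⁻¹) * g⁻¹ := by group
    _ = (g * y * g⁻¹)⁻¹ := by rw [h]; group

theorem mul_self_conj_ne_one {y : G} (g : G) (h : y * y ≠ 1) :
    (g * y * g⁻¹) * (g * y * g⁻¹) ≠ 1 := by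
  intro hc
  refine h ?_
  calc y * y = g⁻¹ * ((g * y * g⁻¹) * (g * y * g⁻¹)) * g := by group
    _ = 1 := by rw [hc]; group

theorem mul_self_eq_one_of_inverts_commute {i y : G} (h : i * y * i⁻¹ = y⁻¹)
    (hc : i * y = y * i) : y * y = 1 := by
  rw [hc, mul_inv_cancel_right] at h
  nth_rewrite 2 [h]
  exact mul_inv_cancel y

namespace Hyp

variable [Fintype G] [DecidableEq G]

omit [Finite G] in
theorem card_eq' (h : Hyp G p q e o) : Fintype.card G = 2 * (q * e * o) := by
  rw [← h.card, Nat.card_eq_fintype_card]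

omit [Finite G] [DecidableEq G] in
theorem card_filter_mem (H : Subgroup G) [DecidablePred fun y => y ∈ H] :
    (Finset.univ.filter fun y : G => y ∈ H).card = Nat.card H := by
  rw [← Fintype.card_subtype, ← Nat.card_eq_fintype_card]

omit [Finite G] in
theorem card_class_mul (t : G) :
    (Finset.univ.filter fun y : G => IsConj t y).card *
      Nat.card (Subgroup.centralizer ({t} : Set G)) = Fintype.card G := by
  classical
  rw [← Fintype.card_subtype, ← Nat.card_eq_fintype_card, ← Nat.card_eq_fintype_card,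
    Involution.card_isConj_mul_card_centralizer]

omit [Finite G] in
theorem class_subset {t : G} (ht : orderOf t = 2) :
    (Finset.univ.filter fun y : G => IsConj t y) ⊆ invols (G := G) := by
  classical
  intro y hy
  rw [mem_invols, Involution.isConj_orderOf (Finset.mem_filter.1 hy).2, ht]

omit [Finite G] in
/-- The elements conjugate into `⟨x2⟩` contribute at most `|G|(o-1)/2` pairs. -/
theorem sum_o_le (h : Hyp G p q e o) {x2 : G} (hx2 : orderOf x2 = o) :
    2 * ∑ y ∈ Finset.univ.filter (fun y : G => y ≠ 1 ∧ orderOf y ∣ o), J y ≤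
      Fintype.card G * (o - 1) := by
  classical
  let O : Finset G := (Finset.univ.filter fun y => y ∈ Subgroup.zpowers x2).erase 1
  have hO : O.card = o - 1 := by
    rw [Finset.card_erase_of_mem (by simp), ← Fintype.card_subtype,
      ← Nat.card_eq_fintype_card]
    exact congrArg (· - 1) ((Nat.card_zpowers x2).trans hx2)
  rw [← hO]
  refine two_sum_le _ _ fun y hy _ => ?_
  obtain ⟨hy1, hyo⟩ := (Finset.mem_filter.1 hy).2
  refine ⟨fun hsq => hy1 ?_, ?_⟩
  · have h2 : orderOf y ∣ 2 := orderOf_dvd_of_pow_eq_one (by rw [pow_two, hsq])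
    exact orderOf_eq_one_iff.1
      (Nat.eq_one_of_dvd_coprimes (Nat.coprime_two_right.2 h.ho) hyo h2)
  obtain ⟨g, hg⟩ := h.exists_conj_zpowers_o hx2 hyo hy1
  have hne : g * y * g⁻¹ ≠ 1 := fun hh => hy1 (conj_eq_one_iff.1 hh)
  exact ⟨g, Finset.mem_erase.2 ⟨hne, Finset.mem_filter.2 ⟨Finset.mem_univ _, hg⟩⟩,
    Finset.mem_erase.2 ⟨inv_ne_one.2 hne, Finset.mem_filter.2 ⟨Finset.mem_univ _, inv_mem hg⟩⟩⟩

omit [Finite G] in
/-- Splitting the pairs of involutions when none of their products has order `p`. -/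
theorem pairs_le (h : Hyp G p q e o)
    (hB : ∀ i u : G, orderOf i = 2 → orderOf u = p → i * u * i⁻¹ ≠ u⁻¹) :
    (invols (G := G)).card * (invols (G := G)).card ≤
      (invols (G := G)).card + ∑ y ∈ invols (G := G), J y +
        ∑ y ∈ Finset.univ.filter (fun y : G => y ≠ 1 ∧ orderOf y ∣ o), J y +
        ∑ y ∈ Finset.univ.filter (fun y : G => y * y ≠ 1 ∧ orderOf y ∣ e), J y := by
  classical
  rw [← sum_J]
  conv_rhs => rw [← J_one]
  rw [invols, Finset.sum_filter, Finset.sum_filter, Finset.sum_filter,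
    show J (1 : G) = ∑ y : G, if y = 1 then J y else 0 by simp,
    ← Finset.sum_add_distrib, ← Finset.sum_add_distrib, ← Finset.sum_add_distrib]
  refine Finset.sum_le_sum fun y _ => ?_
  by_cases hJ : J y = 0
  · omega
  by_cases hy1 : y = 1
  · rw [if_pos hy1]; omega
  by_cases hy2 : orderOf y = 2
  · rw [if_pos hy2]; omega
  rcases h.spec y with hp | he | ho
  · obtain ⟨i, hi, -, hinv⟩ := exists_of_J_ne_zero hJ
    exact absurd hinv (hB i y hi hp)
  · rw [if_pos (show y * y ≠ 1 ∧ orderOf y ∣ e from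
      ⟨fun hsq => hy2 (Involution.orderOf_eq_two hsq hy1), he⟩)]
    omega
  · rw [if_pos (show y ≠ 1 ∧ orderOf y ∣ o from ⟨hy1, ho⟩)]
    omega

/-- If there are two classes of involutions, or the centraliser of one is cyclic, then some
involution inverts an element of order `p`. -/
theorem all_conj (h : Hyp G p q e o)
    (hB : ∀ i u : G, orderOf i = 2 → orderOf u = p → i * u * i⁻¹ ≠ u⁻¹)
    {x1 x2 : G} (hx1 : orderOf x1 = e) (hx2 : orderOf x2 = o) :
    Nat.card (Subgroup.centralizer ({x1 ^ (e / 2)} : Set G)) = 2 * e ∧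
      ∀ t : G, orderOf t = 2 → IsConj (x1 ^ (e / 2)) t := by
  classical
  haveI : Fact (Nat.Prime 2) := ⟨Nat.prime_two⟩
  set t0 := x1 ^ (e / 2) with ht0
  have ht0o : orderOf t0 = 2 := h.orderOf_half hx1
  have ht0ne : t0 ≠ 1 := Involution.ne_one ht0o
  have hcT := h.card_centralizer_half hx1
  by_contra hcon
  set N := (invols (G := G)).card with hN
  set H0 := Subgroup.centralizer ({t0} : Set G) with hH0
  have ht0H : t0 ∈ H0 := Subgroup.mem_centralizer_singleton_iff.2 rfl
  have he0 := h.e_pos
  have hbig : Fintype.card G ≤ N * e := by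
    rcases not_and_or.1 hcon with hne | hnc
    · have hce : Nat.card H0 = e := hcT.resolve_right hne
      rw [← card_class_mul t0, ← hH0, hce]
      exact Nat.mul_le_mul_right e (Finset.card_le_card (class_subset ht0o))
    · push_neg at hnc
      obtain ⟨t, ht, htn⟩ := hnc
      set A := Finset.univ.filter fun y : G => IsConj t0 y
      set B := Finset.univ.filter fun y : G => IsConj t y
      have hAB : Disjoint A B := Finset.disjoint_filter.2 fun y _ h1 h2 => htn (h1.trans h2.symm)
      have hsum : A.card + B.card ≤ N := by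
        rw [← Finset.card_union_of_disjoint hAB]
        exact Finset.card_le_card (Finset.union_subset (class_subset ht0o) (class_subset ht))
      have hA : Fintype.card G ≤ A.card * (2 * e) := by
        rw [← card_class_mul t0]
        exact Nat.mul_le_mul_left _ (Nat.le_of_dvd (by omega) (h.card_centralizer_invol ht0o))
      have hB' : Fintype.card G ≤ B.card * (2 * e) := by
        rw [← card_class_mul t]
        exact Nat.mul_le_mul_left _ (Nat.le_of_dvd (by omega) (h.card_centralizer_invol ht))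
      nlinarith
  -- a set meeting the classes of the products of order dividing `e`
  have hSdvd : ∀ S : Sylow 2 G, Nat.card (S : Subgroup G) ∣ 2 * e := by
    intro S
    obtain ⟨k, hk⟩ := IsPGroup.iff_card.1 S.isPGroup'
    have hd := Subgroup.card_subgroup_dvd_card (S : Subgroup G)
    rw [h.card, show 2 * (q * e * o) = q * o * (2 * e) by ring, hk] at hd
    rw [hk]
    refine (Nat.Coprime.dvd_of_dvd_mul_left (Nat.Coprime.pow_left k ?_) hd)
    refine Nat.coprime_two_left.2 ?_
    obtain ⟨f, hf⟩ := h.hqp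
    exact (hf ▸ (h.hp.odd_of_ne_two h.hp2).pow).mul h.ho
  obtain ⟨S, hY⟩ : ∃ S : Sylow 2 G, 3 * ((Finset.univ.filter fun y : G =>
      (y ∈ H0 ∨ y ∈ (S : Subgroup G)) ∧ y * y ≠ 1).card) + 6 ≤ 8 * e := by
    have hH0le : Nat.card H0 ≤ 2 * e := by rcases hcT with h1 | h1 <;> omega
    have ht0sq : t0 * t0 = 1 := Involution.mul_self_eq_one ht0o
    by_cases hodd : ∃ r : ℕ, r.Prime ∧ r ≠ 2 ∧ r ∣ e
    · obtain ⟨r, hr, hr2, hre⟩ := hodd
      obtain ⟨S⟩ : Nonempty (Sylow 2 G) := inferInstance
      refine ⟨S, ?_⟩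
      have hS3 : 3 * Nat.card (S : Subgroup G) ≤ 2 * e := by
        obtain ⟨k, hk⟩ := IsPGroup.iff_card.1 S.isPGroup'
        have hco : Nat.Coprime r (2 ^ k) :=
          ((Nat.coprime_primes hr Nat.prime_two).2 hr2).pow_right k
        have hd : r * 2 ^ k ∣ 2 * e :=
          hco.mul_dvd_of_dvd_of_dvd (hre.mul_left 2) (hk ▸ hSdvd S)
        have h3 : 3 ≤ r := by have := hr.two_le; omega
        rw [hk]
        exact (Nat.mul_le_mul_right _ h3).trans (Nat.le_of_dvd (by omega) hd)
      have hsub : (Finset.univ.filter fun y : G =>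
          (y ∈ H0 ∨ y ∈ (S : Subgroup G)) ∧ y * y ≠ 1) ⊆
          ((Finset.univ.filter fun y => y ∈ H0) \ {1, t0}) ∪
            (Finset.univ.filter fun y => y ∈ (S : Subgroup G)).erase 1 := by
        intro y hy
        simp only [Finset.mem_filter, Finset.mem_univ, true_and] at hy
        obtain ⟨hy, hsq⟩ := hy
        simp only [Finset.mem_union, Finset.mem_sdiff, Finset.mem_filter, Finset.mem_univ, true_and,
          Finset.mem_insert, Finset.mem_singleton, Finset.mem_erase]
        have h1 : y ≠ 1 := by rintro rfl; simp at hsq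
        have h2 : y ≠ t0 := by rintro rfl; exact hsq ht0sq
        rcases hy with hy | hy
        · exact Or.inl ⟨hy, by tauto⟩
        · exact Or.inr ⟨h1, hy⟩
      have hc := (Finset.card_le_card hsub).trans (Finset.card_union_le _ _)
      rw [Finset.card_sdiff_of_subset (by simp [Finset.insert_subset_iff, ht0H]),
        Finset.card_pair (Ne.symm ht0ne), Finset.card_erase_of_mem (by simp),
        card_filter_mem, card_filter_mem] at hc
      have hS1 : 0 < Nat.card (S : Subgroup G) := Nat.card_pos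
      have hH1 : 1 < Nat.card H0 := by rcases hcT with h1 | h1 <;> omega
      omega
    · push_neg at hodd
      have hHp : IsPGroup 2 H0 := by
        have hd : Nat.card H0 ∣ 2 * e := h.card_centralizer_invol ht0o
        refine IsPGroup.of_card (n := (Nat.card H0).primeFactorsList.length) ?_
        refine Nat.eq_prime_pow_of_unique_prime_dvd Nat.card_pos.ne' fun {r} hr hrd => ?_
        by_contra hr2
        rcases hr.dvd_mul.1 (hrd.trans hd) with h2 | h2
        · exact hr2 ((Nat.prime_dvd_prime_iff_eq hr Nat.prime_two).1 h2)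
        · exact hodd r hr hr2 h2
      obtain ⟨S, hS⟩ := hHp.exists_le_sylow
      refine ⟨S, ?_⟩
      have hsub : (Finset.univ.filter fun y : G =>
          (y ∈ H0 ∨ y ∈ (S : Subgroup G)) ∧ y * y ≠ 1) ⊆
          (Finset.univ.filter fun y => y ∈ (S : Subgroup G)) \ {1, t0} := by
        intro y hy
        simp only [Finset.mem_filter, Finset.mem_univ, true_and] at hy
        obtain ⟨hy, hsq⟩ := hy
        simp only [Finset.mem_sdiff, Finset.mem_filter, Finset.mem_univ, true_and,
          Finset.mem_insert, Finset.mem_singleton]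
        have h1 : y ≠ 1 := by rintro rfl; simp at hsq
        have h2 : y ≠ t0 := by rintro rfl; exact hsq ht0sq
        exact ⟨hy.elim (fun h' => hS h') id, by tauto⟩
      have hc := Finset.card_le_card hsub
      rw [Finset.card_sdiff_of_subset (by simp [Finset.insert_subset_iff, hS ht0H]),
        Finset.card_pair (Ne.symm ht0ne), card_filter_mem] at hc
      have := Nat.le_of_dvd (by omega) (hSdvd S)
      omega
  have hE : 2 * ∑ y ∈ Finset.univ.filter (fun y : G => y * y ≠ 1 ∧ orderOf y ∣ e), J y ≤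
      Fintype.card G * (Finset.univ.filter fun y : G =>
        (y ∈ H0 ∨ y ∈ (S : Subgroup G)) ∧ y * y ≠ 1).card := by
    refine two_sum_le _ _ fun y hy _ => ?_
    obtain ⟨hsq, hye⟩ := (Finset.mem_filter.1 hy).2
    refine ⟨hsq, ?_⟩
    obtain ⟨g, hg⟩ : ∃ g : G, g * y * g⁻¹ ∈ H0 ∨ g * y * g⁻¹ ∈ (S : Subgroup G) := by
      by_cases hodd : ∃ r : ℕ, r.Prime ∧ r ≠ 2 ∧ r ∣ orderOf y
      · obtain ⟨r, hr, hr2, hry⟩ := hodd
        obtain ⟨g, hg, -⟩ := h.exists_conj_half hx1 hr hr2 hry hye
        exact ⟨g, Or.inl hg⟩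
      · push_neg at hodd
        have hp2 : IsPGroup 2 (Subgroup.zpowers y) := by
          refine IsPGroup.of_card (n := (Nat.card (Subgroup.zpowers y)).primeFactorsList.length) ?_
          refine Nat.eq_prime_pow_of_unique_prime_dvd Nat.card_pos.ne' fun {r} hr hrd => ?_
          by_contra hr2
          exact hodd r hr hr2 (by rwa [Nat.card_zpowers] at hrd)
        obtain ⟨S', hS'⟩ := hp2.exists_le_sylow
        obtain ⟨g, hg⟩ := MulAction.exists_smul_eq G S' S
        refine ⟨g, Or.inr ?_⟩
        rw [← hg, Sylow.coe_subgroup_smul]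
        exact Subgroup.mem_map_of_mem _ (hS' (Subgroup.mem_zpowers y))
    refine ⟨g, Finset.mem_filter.2 ⟨Finset.mem_univ _, hg, mul_self_conj_ne_one g hsq⟩,
      Finset.mem_filter.2 ⟨Finset.mem_univ _, hg.imp (fun h' => inv_mem h') (fun h' => inv_mem h'),
        ?_⟩⟩
    rw [← mul_inv_rev]
    exact inv_ne_one.2 (mul_self_conj_ne_one g hsq)
  have hI : ∑ y ∈ invols (G := G), J y ≤ N * (2 * e) := by
    rw [hN, ← smul_eq_mul, ← Finset.sum_const]
    exact Finset.sum_le_sum fun y hy => (J_le_centralizer y).trans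
      (Nat.le_of_dvd (by omega) (h.card_centralizer_invol (mem_invols.1 hy)))
  have hmain := h.pairs_le hB
  have hO := h.sum_o_le hx2
  set a := (Finset.univ.filter fun y : G =>
        (y ∈ H0 ∨ y ∈ (S : Subgroup G)) ∧ y * y ≠ 1).card with ha
  rw [← hN] at hmain
  rw [h.card_eq'] at hbig hO hE
  have h1 : 2 * (q * o) ≤ N :=
    Nat.le_of_mul_le_mul_right (show 2 * (q * o) * e ≤ N * e by
      linarith [show 2 * (q * o) * e = 2 * (q * e * o) by ring]) (by omega)
  obtain ⟨o', rfl⟩ : ∃ o', o = o' + 1 := ⟨o - 1, by have := h.o_gt; omega⟩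
  simp only [Nat.add_sub_cancel] at hO
  have h2 : 2 * (N * N) ≤ N * (2 + 4 * e + e * o' + e * a) := by
    nlinarith [Nat.mul_le_mul_right o' hbig, Nat.mul_le_mul_right a hbig]
  have hq := h.hq
  have hNpos : 0 < N := lt_of_lt_of_le (by positivity) h1
  have h3 : 2 * N ≤ 2 + 4 * e + e * o' + e * a :=
    Nat.le_of_mul_le_mul_left (show N * (2 * N) ≤ N * (2 + 4 * e + e * o' + e * a) by linarith) hNpos
  have h4 := Nat.mul_le_mul_left e hY
  have ho3 := h.o_gt
  rcases h.rel with ⟨hqe, hoe⟩ | ⟨hqe, hoe⟩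
  · obtain rfl : o' = e := by omega
    subst hqe
    nlinarith
  · obtain rfl : e = o' + 2 := by omega
    obtain rfl : q = 2 * o' + 3 := by omega
    nlinarith

/-- Without involutions inverting elements of order `p` the centraliser of an involution is a
dihedral group. -/
theorem exists_dihedral (h : Hyp G p q e o)
    (hB : ∀ i u : G, orderOf i = 2 → orderOf u = p → i * u * i⁻¹ ≠ u⁻¹)
    {x1 x2 : G} (hx1 : orderOf x1 = e) (hx2 : orderOf x2 = o) :
    (∀ t : G, orderOf t = 2 → IsConj (x1 ^ (e / 2)) t) ∧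
    Nat.card (Subgroup.centralizer ({x1 ^ (e / 2)} : Set G)) = 2 * e ∧
    ∃ s : G, orderOf s = 2 ∧ s ∈ Subgroup.centralizer ({x1 ^ (e / 2)} : Set G) ∧
      s ∉ Subgroup.zpowers x1 ∧ ∀ k ∈ Subgroup.zpowers x1, s * k * s⁻¹ = k⁻¹ := by
  classical
  obtain ⟨hc2, hconj⟩ := h.all_conj hB hx1 hx2
  refine ⟨hconj, hc2, ?_⟩
  set t0 := x1 ^ (e / 2) with ht0
  have ht0o : orderOf t0 = 2 := h.orderOf_half hx1
  have ht0ne : t0 ≠ 1 := Involution.ne_one ht0o
  set H0 := Subgroup.centralizer ({t0} : Set G) with hH0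
  set K := Subgroup.zpowers x1 with hK
  have ht0K : t0 ∈ K := pow_mem (Subgroup.mem_zpowers x1) _
  have hKH : K ≤ H0 := le_centralizer_of_mem ht0K
  have hH0dvd : Nat.card H0 ∣ 2 * orderOf x1 := by rw [hx1]; exact h.card_centralizer_invol ht0o
  have hKcomm : ∀ a ∈ K, ∀ b ∈ K, a * b = b * a := by
    rintro _ ⟨i, rfl⟩ _ ⟨j, rfl⟩
    exact (Commute.refl x1).zpow_zpow i j
  set W := Finset.univ.filter (fun i : G => orderOf i = 2 ∧ i ∈ H0 ∧ i ∉ K) with hW
  -- an involution is a product of two in at most `|W|` ways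
  have hJinv : ∀ y : G, orderOf y = 2 → J y ≤ W.card := by
    intro y hy
    obtain ⟨g, hg⟩ := isConj_iff.1 (hconj y hy).symm
    refine Finset.card_le_card_of_injOn (fun i => g * i * g⁻¹) ?_
      (fun a _ b _ hab => mul_left_cancel (mul_right_cancel hab))
    intro i hi
    rw [Finset.mem_coe, Finset.mem_filter, mem_invols] at hi
    rw [Finset.mem_coe, hW, Finset.mem_filter]
    have hj : orderOf (g * i * g⁻¹) = 2 := by rw [Involution.orderOf_conj_eq, hi.1]
    refine ⟨Finset.mem_univ _, hj, ?_, fun hmem => ?_⟩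
    · rw [Subgroup.mem_centralizer_singleton_iff, ← hg]
      have hinv := inverts_of_pair hi.1 hi.2
      rw [Involution.inv_eq_self (Involution.mul_self_eq_one hy)] at hinv
      calc g * i * g⁻¹ * (g * y * g⁻¹) = g * (i * y * i⁻¹) * (i * g⁻¹) := by group
        _ = g * y * g⁻¹ * (g * i * g⁻¹) := by rw [hinv]; group
    · have heq := Involution.eq_of_mem_zpowers hj ht0o hmem ht0K
      rw [← hg] at heq
      have hiy : i = y := mul_left_cancel (mul_right_cancel heq)
      have := hi.2
      rw [hiy, Involution.mul_self_eq_one hy, orderOf_one] at this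
      exact absurd this (by norm_num)
  -- a product of order dividing `e` is conjugate to one in `K` inverted by a member of `W`
  have hreal : ∀ y : G, y * y ≠ 1 → orderOf y ∣ e → J y ≠ 0 →
      ∃ g i : G, i ∈ W ∧ g * y * g⁻¹ ∈ K ∧
        i * (g * y * g⁻¹) * i⁻¹ = (g * y * g⁻¹)⁻¹ := by
    intro y hsq hye hJ
    obtain ⟨i, hi, -, hinv⟩ := exists_of_J_ne_zero hJ
    obtain ⟨g, hgy, hgi⟩ : ∃ g : G, g * y * g⁻¹ ∈ H0 ∧ g * i * g⁻¹ ∈ H0 := by
      by_cases hev : Even (orderOf y)
      · set z := y ^ (orderOf y / 2) with hz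
        have hzo : orderOf z = 2 := Involution.orderOf_half_pow hev
        have hiz : i * z * i⁻¹ = z := by
          rw [hz, ← conj_pow, hinv, inv_pow, ← hz,
            Involution.inv_eq_self (Involution.mul_self_eq_one hzo)]
        obtain ⟨g, hg⟩ := isConj_iff.1 (hconj z hzo).symm
        refine ⟨g, ?_, ?_⟩ <;> rw [Subgroup.mem_centralizer_singleton_iff, ← hg]
        · calc g * y * g⁻¹ * (g * z * g⁻¹) = g * (y * z) * g⁻¹ := by group
            _ = g * (z * y) * g⁻¹ := by rw [hz, (Commute.self_pow y _).eq]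
            _ = g * z * g⁻¹ * (g * y * g⁻¹) := by group
        · calc g * i * g⁻¹ * (g * z * g⁻¹) = g * (i * z * i⁻¹) * (i * g⁻¹) := by group
            _ = g * z * g⁻¹ * (g * i * g⁻¹) := by rw [hiz]; group
      · rw [Nat.not_even_iff_odd] at hev
        have hy1 : orderOf y ≠ 1 := fun hh => hsq (by rw [orderOf_eq_one_iff.1 hh, one_mul])
        obtain ⟨r, hr, hry⟩ := Nat.exists_prime_and_dvd hy1
        have hr2 : r ≠ 2 := fun hh => by
          subst hh
          exact (Nat.not_even_iff_odd.2 hev) (even_iff_two_dvd.2 hry)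
        obtain ⟨g, -, hgK⟩ := h.exists_conj_half hx1 hr hr2 hry hye
        refine ⟨g, hKH (hgK hev), ?_⟩
        set u := g * y * g⁻¹ with hu
        set j := g * i * g⁻¹ with hj
        have hju : j * u * j⁻¹ = u⁻¹ := conj_inverts g hinv
        have hu1 : u ≠ 1 := fun hh => by
          have := mul_self_conj_ne_one g hsq
          rw [← hu, hh, one_mul] at this
          exact this rfl
        have hjC : ∀ c ∈ Subgroup.centralizer ({u} : Set G),
            j * c * j⁻¹ ∈ Subgroup.centralizer ({u} : Set G) := by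
          intro c hc
          rw [Subgroup.mem_centralizer_singleton_iff] at hc ⊢
          have h1 : Commute (j * c * j⁻¹) u⁻¹ := by
            rw [← hju]
            show j * c * j⁻¹ * (j * u * j⁻¹) = j * u * j⁻¹ * (j * c * j⁻¹)
            calc j * c * j⁻¹ * (j * u * j⁻¹) = j * (c * u) * j⁻¹ := by group
              _ = j * (u * c) * j⁻¹ := by rw [hc]
              _ = j * u * j⁻¹ * (j * c * j⁻¹) := by group
          exact inv_inv u ▸ h1.inv_right.eq
        have ht0u : t0 ∈ Subgroup.centralizer ({u} : Set G) :=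
          le_centralizer_of_mem (hgK hev) ht0K
        by_contra hjH
        set t1 := j * t0 * j⁻¹ with ht1
        have ht1o : orderOf t1 = 2 := by rw [ht1, Involution.orderOf_conj_eq, ht0o]
        by_cases hCK : Subgroup.centralizer ({u} : Set G) ≤ K
        · refine hjH (Subgroup.mem_centralizer_singleton_iff.2 ?_)
          have heq := Involution.eq_of_mem_zpowers ht1o ht0o (hCK (hjC _ ht0u)) ht0K
          calc j * t0 = j * t0 * j⁻¹ * j := by group
            _ = t0 * j := by rw [← ht1, heq]
        · have hle := h.centralizer_le_half hx1 (hgK hev) hu1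
          have heqC : Subgroup.centralizer ({u} : Set G) = H0 := by
            refine Subgroup.eq_of_le_of_card_ge hle ?_
            have hKC : K < Subgroup.centralizer ({u} : Set G) :=
              lt_of_le_not_ge (le_centralizer_of_mem (hgK hev)) hCK
            obtain ⟨c, hc⟩ := Subgroup.card_dvd_of_le hKC.le
            have hd : Nat.card (Subgroup.centralizer ({u} : Set G)) ∣ 2 * e := by
              rw [← hx1]; exact h.card_centralizer_dvd hx1 (hgK hev) hu1
            rw [hc, hK, Nat.card_zpowers, hx1, mul_comm 2 e] at hd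
            rcases (Nat.dvd_prime Nat.prime_two).1
              (Nat.dvd_of_mul_dvd_mul_left (by have := h.e_pos; omega) hd) with rfl | rfl
            · exact absurd (Subgroup.eq_of_le_of_card_ge hKC.le (by rw [hc, mul_one])).symm.le hCK
            · rw [hc, hc2, hK, Nat.card_zpowers, hx1, mul_comm]
          rw [heqC] at hjC
          have ht0H : t0 ∈ H0 := heqC ▸ ht0u
          -- `j` fixes the central involution `t0 * t1`
          have ht1H : t1 ∈ H0 := hjC _ ht0H
          have hcomm : t1 * t0 = t0 * t1 := Subgroup.mem_centralizer_singleton_iff.1 ht1H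
          have hne : t1 ≠ t0 := fun hh => hjH (Subgroup.mem_centralizer_singleton_iff.2 (by
            calc j * t0 = j * t0 * j⁻¹ * j := by group
              _ = t0 * j := by rw [← ht1, hh]))
          have hjj : j * j = 1 := Involution.mul_self_eq_one
            (by rw [hj, Involution.orderOf_conj_eq, hi])
          have hjinv := Involution.inv_eq_self hjj
          have hvo : orderOf (t0 * t1) = 2 := by
            refine Involution.orderOf_eq_two ?_ fun hh => hne ?_
            · calc t0 * t1 * (t0 * t1) = t0 * (t1 * t0) * t1 := by group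
                _ = (t0 * t0) * (t1 * t1) := by rw [hcomm]; group
                _ = 1 := by rw [Involution.mul_self_eq_one ht0o,
                  Involution.mul_self_eq_one ht1o, one_mul]
            · rw [eq_inv_of_mul_eq_one_right hh,
                Involution.inv_eq_self (Involution.mul_self_eq_one ht0o)]
          have hsub : H0 ≤ Subgroup.centralizer ({t0 * t1} : Set G) := by
            intro c hc
            have hc0 : Commute c t0 := Subgroup.mem_centralizer_singleton_iff.1 hc
            have hc1 : Commute c t1 := by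
              have h1 : j⁻¹ * c * j ∈ H0 := by
                have := hjC c hc
                rwa [hjinv] at this ⊢
              have h2 := Subgroup.mem_centralizer_singleton_iff.1 h1
              show c * t1 = t1 * c
              calc c * t1 = j * (j⁻¹ * c * j * t0) * j⁻¹ := by rw [ht1]; group
                _ = j * (t0 * (j⁻¹ * c * j)) * j⁻¹ := by rw [h2]
                _ = t1 * c := by rw [ht1]; group
            rw [Subgroup.mem_centralizer_singleton_iff]
            exact (hc0.mul_right hc1).eq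
          have heqv : H0 = Subgroup.centralizer ({t0 * t1} : Set G) :=
            Subgroup.eq_of_le_of_card_ge hsub (by
              rw [hc2]
              exact Nat.le_of_dvd (by have := h.e_pos; omega) (h.card_centralizer_invol hvo))
          refine hjH ?_
          rw [heqv, Subgroup.mem_centralizer_singleton_iff]
          have hfix : j * (t0 * t1) * j⁻¹ = (t0 * t1) := by
            calc j * (t0 * t1) * j⁻¹ = (j * t0 * j⁻¹) * (j * t1 * j⁻¹) := by group
              _ = t1 * ((j * j) * t0 * (j * j)⁻¹) := by rw [← ht1, ht1]; group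
              _ = (t0 * t1) := by rw [hjj, inv_one, one_mul, mul_one, hcomm]
          calc j * (t0 * t1) = j * (t0 * t1) * j⁻¹ * j := by group
            _ = (t0 * t1) * j := by rw [hfix]
    set u := g * y * g⁻¹ with hu
    set j := g * i * g⁻¹ with hj
    have hju : j * u * j⁻¹ = u⁻¹ := conj_inverts g hinv
    have husq : u * u ≠ 1 := mul_self_conj_ne_one g hsq
    have hjo : orderOf j = 2 := by rw [hj, Involution.orderOf_conj_eq, hi]
    have hjK : j ∉ K := fun hmem => husq <| by
      have heq := Involution.eq_of_mem_zpowers hjo ht0o hmem ht0K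
      refine mul_self_eq_one_of_inverts_commute hju ?_
      rw [heq]
      exact (Subgroup.mem_centralizer_singleton_iff.1 hgy).symm
    have huK : u ∈ K := by
      by_contra huK
      obtain ⟨-, -, hprod⟩ := sub_two hKH hH0dvd hgy
      have hujK : u * j ∈ K := hprod j hgi huK hjK
      have hjinv := Involution.inv_eq_self (Involution.mul_self_eq_one hjo)
      have huj2 : u * j * (u * j) = 1 := by
        calc u * j * (u * j) = u * (j * u * j) := by group
          _ = u * (j * u * j⁻¹) := by rw [hjinv]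
          _ = 1 := by rw [hju, mul_inv_cancel]
      by_cases h1 : u * j = 1
      · refine husq ?_
        rw [eq_inv_of_mul_eq_one_left h1, hjinv, Involution.mul_self_eq_one hjo]
      · have heq := Involution.eq_of_mem_zpowers (Involution.orderOf_eq_two huj2 h1) ht0o hujK ht0K
        refine husq ?_
        have hu' : u = t0 * j := by rw [← heq, mul_assoc, Involution.mul_self_eq_one hjo, mul_one]
        have hcomm : j * t0 = t0 * j := Subgroup.mem_centralizer_singleton_iff.1 hgi
        calc u * u = t0 * (j * t0) * j := by rw [hu']; group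
          _ = t0 * t0 * (j * j) := by rw [hcomm]; group
          _ = 1 := by
            rw [Involution.mul_self_eq_one ht0o, Involution.mul_self_eq_one hjo, one_mul]
    exact ⟨g, j, Finset.mem_filter.2 ⟨Finset.mem_univ _, hjo, hgi, hjK⟩, huK, hju⟩
  set N := (invols (G := G)).card with hN
  have hclass : Finset.univ.filter (fun y : G => IsConj t0 y) = invols (G := G) :=
    Finset.Subset.antisymm (class_subset ht0o) fun y hy =>
      Finset.mem_filter.2 ⟨Finset.mem_univ _, hconj y (mem_invols.1 hy)⟩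
  have hNval : N = q * o := by
    have := card_class_mul t0
    rw [hclass, ← hN, ← hH0, hc2, h.card_eq'] at this
    refine Nat.eq_of_mul_eq_mul_right (show 0 < 2 * e by have := h.e_pos; omega) ?_
    rw [this]; ring
  have hI : ∑ y ∈ invols (G := G), J y ≤ N * W.card := by
    rw [hN, ← smul_eq_mul, ← Finset.sum_const]
    exact Finset.sum_le_sum fun y hy => hJinv y (mem_invols.1 hy)
  have hmain := h.pairs_le hB
  have hO := h.sum_o_le hx2
  rw [← hN] at hmain
  have ho3 := h.o_gt
  have hNpos : 0 < N := by rw [hNval]; exact Nat.mul_pos (by have := h.hq; omega) (by omega)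
  obtain ⟨o', rfl⟩ : ∃ o', o = o' + 1 := ⟨o - 1, by omega⟩
  simp only [Nat.add_sub_cancel] at hO
  rw [h.card_eq'] at hO
  by_cases hWe : W = ∅
  · exfalso
    have hE0 : ∑ y ∈ Finset.univ.filter (fun y : G => y * y ≠ 1 ∧ orderOf y ∣ e), J y = 0 := by
      refine Finset.sum_eq_zero fun y hy => ?_
      by_contra hJ
      obtain ⟨hsq, hye⟩ := (Finset.mem_filter.1 hy).2
      obtain ⟨g, i, hi, -⟩ := hreal y hsq hye hJ
      simp [hWe] at hi
    rw [hE0, add_zero] at hmain
    rw [hWe, Finset.card_empty, mul_zero, Nat.le_zero] at hI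
    rw [hI, add_zero] at hmain
    have hGN : 2 * (q * e * (o' + 1)) = 2 * e * N := by rw [hNval]; ring
    have h1 : N * N ≤ N * (1 + e * o') := by rw [hGN] at hO; nlinarith
    have h2 := Nat.le_of_mul_le_mul_left h1 hNpos
    rw [hNval] at h2
    rcases h.rel with ⟨hqe, hoe⟩ | ⟨hqe, hoe⟩
    · obtain rfl : o' = e := by omega
      subst hqe
      nlinarith
    · obtain rfl : e = o' + 2 := by omega
      obtain rfl : q = 2 * o' + 3 := by omega
      nlinarith
  obtain ⟨s, hs⟩ := Finset.nonempty_iff_ne_empty.2 hWe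
  obtain ⟨hso, hsH, hsK⟩ := (Finset.mem_filter.1 hs).2
  set Ka := Finset.univ.filter (fun k : G => k ∈ K ∧ s * k * s⁻¹ = k⁻¹) with hKa
  have hsinv := Involution.inv_eq_self (Involution.mul_self_eq_one hso)
  have hWKa : W.card ≤ Ka.card := by
    refine Finset.card_le_card_of_injOn (fun i => i * s) ?_ (fun a _ b _ hab => mul_right_cancel hab)
    intro i hi
    rw [Finset.mem_coe, hW, Finset.mem_filter] at hi
    obtain ⟨-, hio, hiH, hiK⟩ := hi
    rw [Finset.mem_coe, hKa, Finset.mem_filter]
    obtain ⟨-, -, hprod⟩ := sub_two hKH hH0dvd hiH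
    refine ⟨Finset.mem_univ _, hprod s hsH hiK hsK, ?_⟩
    calc s * (i * s) * s⁻¹ = s * i := by group
      _ = (i * s)⁻¹ := by
        rw [mul_inv_rev, hsinv, Involution.inv_eq_self (Involution.mul_self_eq_one hio)]
  have hinvs : ∀ i ∈ W, ∀ k ∈ K, i * k * i⁻¹ = k⁻¹ → s * k * s⁻¹ = k⁻¹ := by
    intro i hi k hk hik
    obtain ⟨hio, hiH, hiK⟩ := (Finset.mem_filter.1 hi).2
    obtain ⟨-, -, hprod⟩ := sub_two hKH hH0dvd hsH
    have hsi : s * i ∈ K := hprod i hiH hsK hiK
    calc s * k * s⁻¹ = (s * i) * (i⁻¹ * k * i) * (s * i)⁻¹ := by group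
      _ = (s * i) * (i * k * i⁻¹) * (s * i)⁻¹ := by
        rw [Involution.inv_eq_self (Involution.mul_self_eq_one hio)]
      _ = k⁻¹ := by rw [hik, hKcomm _ hsi _ (inv_mem hk), mul_inv_cancel_right]
  have h1Ka : (1 : G) ∈ Ka := by simp [hKa]
  have ht0Ka : t0 ∈ Ka := by
    refine Finset.mem_filter.2 ⟨Finset.mem_univ _, ht0K, ?_⟩
    rw [Subgroup.mem_centralizer_singleton_iff.1 hsH, mul_inv_cancel_right,
      Involution.inv_eq_self (Involution.mul_self_eq_one ht0o)]
  have hpair : ({1, t0} : Finset G) ⊆ Ka := Finset.insert_subset_iff.2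
    ⟨h1Ka, Finset.singleton_subset_iff.2 ht0Ka⟩
  have hE : 2 * ∑ y ∈ Finset.univ.filter (fun y : G => y * y ≠ 1 ∧ orderOf y ∣ e), J y ≤
      Fintype.card G * (Ka \ {1, t0}).card := by
    refine two_sum_le _ _ fun y hy hJ => ?_
    obtain ⟨hsq, hye⟩ := (Finset.mem_filter.1 hy).2
    refine ⟨hsq, ?_⟩
    obtain ⟨g, i, hi, hgK, hinv⟩ := hreal y hsq hye hJ
    have h1 := hinvs i hi _ hgK hinv
    have hne := mul_self_conj_ne_one g hsq
    have hnot : ∀ k : G, k * k ≠ 1 → k ∉ ({1, t0} : Finset G) := by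
      intro k hk hmem
      rcases Finset.mem_insert.1 hmem with rfl | h2
      · exact hk (one_mul 1)
      · rw [Finset.mem_singleton] at h2
        subst h2
        exact hk (Involution.mul_self_eq_one ht0o)
    refine ⟨g, Finset.mem_sdiff.2 ⟨Finset.mem_filter.2 ⟨Finset.mem_univ _, hgK, h1⟩, hnot _ hne⟩,
      Finset.mem_sdiff.2 ⟨Finset.mem_filter.2 ⟨Finset.mem_univ _, inv_mem hgK, ?_⟩, hnot _ ?_⟩⟩
    · rw [← conj_inv, h1]
    · rw [← mul_inv_rev]; exact inv_ne_one.2 hne
  rw [Finset.card_sdiff_of_subset hpair, Finset.card_pair (Ne.symm ht0ne), h.card_eq'] at hE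
  have hKcard : (Finset.univ.filter fun k : G => k ∈ K).card = e := by
    rw [← Fintype.card_subtype, ← Nat.card_eq_fintype_card]
    exact (Nat.card_zpowers x1).trans hx1
  have hKsub : Ka ⊆ Finset.univ.filter (fun k : G => k ∈ K) := by
    intro k hk
    exact Finset.mem_filter.2 ⟨Finset.mem_univ _, (Finset.mem_filter.1 hk).2.1⟩
  have hm : Ka.card ≤ e := hKcard ▸ Finset.card_le_card hKsub
  obtain ⟨m, hm2⟩ : ∃ m, Ka.card = m + 2 := ⟨Ka.card - 2, by
    have := Finset.card_le_card hpair
    rw [Finset.card_pair (Ne.symm ht0ne)] at this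
    omega⟩
  rw [hm2] at hE hWKa hm
  simp only [Nat.add_sub_cancel] at hE
  have hGN : 2 * (q * e * (o' + 1)) = 2 * e * N := by rw [hNval]; ring
  have h1 : N * N ≤ N * (1 + (m + 2) + e * o' + e * m) := by
    rw [hGN] at hO hE
    nlinarith [Nat.mul_le_mul_left N hWKa]
  have h2 := Nat.le_of_mul_le_mul_left h1 hNpos
  rw [hNval] at h2
  have hme : Ka.card = e := by
    rcases h.rel with ⟨hqe, hoe⟩ | ⟨hqe, hoe⟩
    · exfalso
      obtain rfl : o' = e := by omega
      subst hqe
      nlinarith
    · obtain rfl : e = o' + 2 := by omega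
      obtain rfl : q = 2 * o' + 3 := by omega
      rw [hm2]
      by_contra hlt
      have : m + 1 ≤ o' := by omega
      nlinarith
  have hall := Finset.eq_of_subset_of_card_le hKsub (by rw [hKcard, hme])
  refine ⟨s, hso, hsH, hsK, fun k hk => ?_⟩
  have : k ∈ Ka := hall ▸ Finset.mem_filter.2 ⟨Finset.mem_univ _, hk⟩
  exact (Finset.mem_filter.1 this).2.2

omit [Fintype G] [DecidableEq G] in
/-- The Sylow `p`-subgroups are abelian. -/
theorem sylow_abelian (h : Hyp G p q e o) [Fact p.Prime] (Q : Sylow p G) :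
    IsMulCommutative (Q : Subgroup G) := by
  classical
  by_cases hA : ∃ i u : G, orderOf i = 2 ∧ orderOf u = p ∧ i * u * i⁻¹ = u⁻¹
  · obtain ⟨i, u, hi, hu, hinv⟩ := hA
    obtain ⟨P, hP⟩ := CharCount.exists_sylow_inverted' h.hp2 h.no_two_p hi
      (fun hh => h.hp.ne_one (by rw [← hu, hh, orderOf_one])) ⟨1, by rw [hu, pow_one]⟩ hinv
    refine sylow_isMulCommutative_of_one P ⟨⟨fun a b => Subtype.ext ?_⟩⟩ Q
    have h1 := hP _ (mul_mem a.2 b.2)
    rw [← conj_mul, hP _ a.2, hP _ b.2, mul_inv_rev] at h1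
    have h2 := congrArg (·⁻¹) h1
    simp only [mul_inv_rev, inv_inv] at h2
    exact h2.symm
  push_neg at hA
  cases nonempty_fintype G
  obtain ⟨x1, hx1⟩ := h.exE
  obtain ⟨x2, hx2⟩ := h.exO
  obtain ⟨hconj, hc2, s, hso, hsH, hsK, hinv⟩ := h.exists_dihedral hA hx1 hx2
  set t0 := x1 ^ (e / 2) with ht0
  set K := Subgroup.zpowers x1 with hK
  have ht0o : orderOf t0 = 2 := h.orderOf_half hx1
  have ht0K : t0 ∈ K := pow_mem (Subgroup.mem_zpowers x1) _
  have hKH : K ≤ Subgroup.centralizer ({t0} : Set G) := le_centralizer_of_mem ht0K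
  have hKcard : Nat.card K = e := (Nat.card_zpowers x1).trans hx1
  have hsup : K ⊔ Subgroup.zpowers s = Subgroup.centralizer ({t0} : Set G) := by
    have hle : K ⊔ Subgroup.zpowers s ≤ Subgroup.centralizer ({t0} : Set G) :=
      sup_le hKH (Subgroup.zpowers_le.2 hsH)
    refine Subgroup.eq_of_le_of_card_ge hle ?_
    rw [hc2]
    obtain ⟨c, hc⟩ := Subgroup.card_dvd_of_le (le_sup_left : K ≤ K ⊔ Subgroup.zpowers s)
    rw [hKcard] at hc
    have hpos : 0 < Nat.card (K ⊔ Subgroup.zpowers s : Subgroup G) := Nat.card_pos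
    have hc1 : c ≠ 1 := by
      rintro rfl
      have heq := Subgroup.eq_of_le_of_card_ge (le_sup_left : K ≤ K ⊔ Subgroup.zpowers s)
        (by rw [hc, hKcard, mul_one])
      exact hsK (heq ▸ (le_sup_right : Subgroup.zpowers s ≤ _) (Subgroup.mem_zpowers s))
    have hc0 : c ≠ 0 := by rintro rfl; rw [hc] at hpos; simp at hpos
    rw [hc, mul_comm 2 e]
    exact Nat.mul_le_mul_left e (by omega)
  have hCK : K ⊓ Subgroup.centralizer ({s} : Set G) = Subgroup.zpowers t0 := by
    refine le_antisymm ?_ (Subgroup.zpowers_le.2 ⟨ht0K, Subgroup.mem_centralizer_singleton_iff.2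
      (Subgroup.mem_centralizer_singleton_iff.1 hsH).symm⟩)
    rintro k ⟨hk, hks⟩
    have hkk : k * k = 1 := mul_self_eq_one_of_inverts_commute (hinv k hk)
      (Subgroup.mem_centralizer_singleton_iff.1 hks).symm
    by_cases hk1 : k = 1
    · exact hk1 ▸ one_mem _
    · rw [Involution.eq_of_mem_zpowers (Involution.orderOf_eq_two hkk hk1) ht0o hk ht0K]
      exact Subgroup.mem_zpowers t0
  have hTI : ∀ g : G, g ∉ Subgroup.centralizer ({t0} : Set G) →
      K ⊓ K.map (MulAut.conj g).toMonoidHom = ⊥ := by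
    intro g hg
    refine (Subgroup.eq_bot_iff_forall _).2 ?_
    rintro x ⟨hx, k, hk, rfl⟩
    simp only [MulEquiv.coe_toMonoidHom, MulAut.conj_apply] at hx ⊢
    by_contra hne
    have hk1 : k ≠ 1 := fun hh => hne (by rw [hh, mul_one, mul_inv_cancel])
    refine hg (Subgroup.mem_centralizer_singleton_iff.2 ?_)
    have key : g * t0 * g⁻¹ = t0 := by
      by_cases hkk : k * k = 1
      · have hk2 := Involution.orderOf_eq_two hkk hk1
        rw [← Involution.eq_of_mem_zpowers hk2 ht0o hk ht0K]
        exact Involution.eq_of_mem_zpowers (by rw [Involution.orderOf_conj_eq, hk2]) hk2 hx hk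
      · have hxx := mul_self_conj_ne_one g hkk
        set x := g * k * g⁻¹ with hxdef
        have hgt : g * t0 * g⁻¹ ∈ Subgroup.centralizer ({x} : Set G) := by
          rw [Subgroup.mem_centralizer_singleton_iff, hxdef]
          calc g * t0 * g⁻¹ * (g * k * g⁻¹) = g * (t0 * k) * g⁻¹ := by group
            _ = g * (k * t0) * g⁻¹ := by
              rw [(Subgroup.mem_centralizer_singleton_iff.1 (hKH hk)).symm]
            _ = g * k * g⁻¹ * (g * t0 * g⁻¹) := by group
        refine Involution.eq_of_mem_zpowers (by rw [Involution.orderOf_conj_eq, ht0o]) ht0o ?_ ht0K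
        by_contra hmem
        have hle := h.centralizer_le_half hx1 hx hne
        have hdvd : Nat.card (Subgroup.centralizer ({t0} : Set G)) ∣ 2 * orderOf x1 := by
          rw [hc2, hx1]
        obtain ⟨-, -, hprod⟩ := sub_two hKH hdvd (hle hgt)
        have hw : g * t0 * g⁻¹ * s ∈ K := hprod s hsH hmem hsK
        have hsC : s ∈ Subgroup.centralizer ({x} : Set G) := by
          have h1 := mul_mem (inv_mem hgt) (le_centralizer_of_mem hx hw)
          rwa [inv_mul_cancel_left] at h1
        exact hxx (mul_self_eq_one_of_inverts_commute (hinv x hx)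
          (Subgroup.mem_centralizer_singleton_iff.1 hsC))
    calc g * t0 = g * t0 * g⁻¹ * g := by group
      _ = t0 * g := by rw [key]
  have hKab : IsMulCommutative K := by
    rw [hK]
    infer_instance
  obtain ⟨S, -, -⟩ := BSW.exists_setup t0 ht0o K hKab hKH ht0K s hso hsH hsK hsup hCK hinv hTI
    (fun x y hx hy => (hconj x hx).symm.trans (hconj y hy))
  obtain ⟨R, D, hR, hRC, -⟩ := S.exists_structure
  have hsq : q * (q + 1) * (q - 1) = 4 * (q * e * o) := by
    rcases h.rel with ⟨h1, h2⟩ | ⟨h1, h2⟩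
    · subst h1 h2; simp only [Nat.add_sub_cancel]; ring
    · obtain ⟨t, rfl⟩ : ∃ t, e = t + 1 := ⟨e - 1, by have := h.e_pos; omega⟩
      obtain rfl : o = t := by omega
      obtain rfl : q = 2 * o + 1 := by omega
      simp only [Nat.add_sub_cancel]; ring
  have hRq : Nat.card R = q := by
    refine strictMono_key (by have := h.hq; omega) ?_ (by have := h.hq; omega)
    rw [← hR, hsq, h.card]
    ring
  obtain ⟨P⟩ : Nonempty (Sylow p G) := inferInstance
  have hPcard : Nat.card (P : Subgroup G) = Nat.card R := by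
    obtain ⟨f, hf⟩ := h.hqp
    rw [hRq, P.card_eq_multiplicity, hf]
    congr 1
    have hco : Nat.Coprime p (2 * (e * o)) :=
      ((Nat.coprime_primes h.hp Nat.prime_two).2 h.hp2).mul_right
        (h.coprime_p.1.mul_right h.coprime_p.2)
    rw [h.card, show 2 * (q * e * o) = p ^ f * (2 * (e * o)) by rw [hf]; ring]
    have := h.e_pos; have := h.o_gt
    rw [Nat.factorization_mul (pow_ne_zero _ h.hp.ne_zero) (by positivity), Finsupp.add_apply,
      Nat.factorization_eq_zero_of_not_dvd (h.hp.coprime_iff_not_dvd.1 hco),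
      h.hp.factorization_pow, Finsupp.single_eq_same, add_zero]
  let RS : Sylow p G := Sylow.ofCard R (by rw [← hPcard, P.card_eq_multiplicity])
  refine sylow_isMulCommutative_of_one RS ?_ Q
  refine ⟨⟨fun a b => Subtype.ext ?_⟩⟩
  by_cases hb : (b : G) = 1
  · simp [hb]
  · have hbR : (b : G) ∈ R := b.2
    have haR : (a : G) ∈ R := a.2
    rw [← hRC _ hbR hb] at haR
    exact Subgroup.mem_centralizer_singleton_iff.1 haR

end Hyp

end Cfsg.Agent.Lib.PSLSpectrum
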