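import Mathlib

/-!
Groups with the order and the element orders of `PSL₂(q)`, `q` odd: centralisers of elements and
conjugacy into the two cyclic subgroups.
-/

set_option autoImplicit false

namespace Cfsg.Agent.Lib.PSLSpectrum

/-- `G` has order `q(q²-1)/2` and its element orders are `p` or divide one of the even number `e` and
the odd number `o`, the halves of `q ± 1`. -/
structure Hyp (G : Type*) [Group G] (p q e o : ℕ) : Prop where
  hp : p.Prime
  hp2 : p ≠ 2
  hq : 5 ≤ q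
  hqp : ∃ f : ℕ, q = p ^ f
  he : Even e
  ho : Odd o
  rel : (q = 2 * e + 1 ∧ o = e + 1) ∨ (q + 1 = 2 * e ∧ o + 1 = e)
  card : Nat.card G = 2 * (q * e * o)
  spec : ∀ g : G, orderOf g = p ∨ orderOf g ∣ e ∨ orderOf g ∣ o
  exE : ∃ x : G, orderOf x = e
  exO : ∃ x : G, orderOf x = o

variable {G : Type*} [Group G] {p q e o : ℕ}

namespace Hyp

theorem p_dvd_q (h : Hyp G p q e o) : p ∣ q := by
  obtain ⟨f, hf⟩ := h.hqp
  have : f ≠ 0 := by
    rintro rfl
    have := h.hq
    simp at hf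
    omega
  exact hf ▸ dvd_pow_self p this

theorem e_pos (h : Hyp G p q e o) : 2 ≤ e := by
  have := h.hq
  rcases h.rel with ⟨h1, -⟩ | ⟨h1, -⟩ <;> omega

theorem o_gt (h : Hyp G p q e o) : 3 ≤ o := by
  have := h.hq
  obtain ⟨k, hk⟩ := h.ho
  obtain ⟨l, hl⟩ := h.he
  rcases h.rel with ⟨h1, h2⟩ | ⟨h1, h2⟩ <;> omega

theorem coprime_e_o (h : Hyp G p q e o) : Nat.Coprime e o := by
  rcases h.rel with ⟨-, h2⟩ | ⟨-, h2⟩
  · rw [h2, Nat.coprime_self_add_right]
    exact Nat.coprime_one_right e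
  · rw [← h2, Nat.coprime_self_add_left]
    exact Nat.coprime_one_left o

theorem coprime_p (h : Hyp G p q e o) : Nat.Coprime p e ∧ Nat.Coprime p o := by
  have h1 := h.hp.two_le
  have hpq := h.p_dvd_q
  constructor <;> rw [h.hp.coprime_iff_not_dvd] <;> intro hd <;>
    rcases h.rel with ⟨hq, ho⟩ | ⟨hq, ho⟩
  · have : p ∣ 1 := (Nat.dvd_add_right (hd.mul_left 2)).1 (hq ▸ hpq)
    exact h.hp.not_dvd_one this
  · have : p ∣ 1 := (Nat.dvd_add_right hpq).1 (hq ▸ hd.mul_left 2)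
    exact h.hp.not_dvd_one this
  · have h2 : p ∣ q + 1 := by
      have := hd.mul_left 2
      rwa [show 2 * o = q + 1 by omega] at this
    exact h.hp.not_dvd_one ((Nat.dvd_add_right hpq).1 h2)
  · have h2 : p ∣ 2 * o + 1 := by rwa [show 2 * o + 1 = q by omega]
    exact h.hp.not_dvd_one ((Nat.dvd_add_right (hd.mul_left 2)).1 h2)

theorem coprime_q (h : Hyp G p q e o) : Nat.Coprime q e ∧ Nat.Coprime q o := by
  obtain ⟨f, hf⟩ := h.hqp
  exact ⟨hf ▸ h.coprime_p.1.pow_left f, hf ▸ h.coprime_p.2.pow_left f⟩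

theorem primes_cases (h : Hyp G p q e o) [Finite G] {r : ℕ} (hr : r.Prime)
    (hd : r ∣ Nat.card G) : r = p ∨ r ∣ e ∨ r ∣ o := by
  rw [h.card] at hd
  rcases hr.dvd_mul.1 hd with h2 | h2
  · exact Or.inr (Or.inl (h2.trans h.he.two_dvd))
  rcases hr.dvd_mul.1 h2 with h3 | h3
  · rcases hr.dvd_mul.1 h3 with h4 | h4
    · obtain ⟨f, hf⟩ := h.hqp
      exact Or.inl ((Nat.prime_dvd_prime_iff_eq hr h.hp).1 (hr.dvd_of_dvd_pow (hf ▸ h4)))
    · exact Or.inr (Or.inl h4)
  · exact Or.inr (Or.inr h3)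

/-- The orders of a commuting pair of elements of coprime orders combine. -/
theorem commute_cases (h : Hyp G p q e o) {x y : G} (hxy : Commute x y)
    (hco : (orderOf x).Coprime (orderOf y)) :
    orderOf x * orderOf y = p ∨ orderOf x * orderOf y ∣ e ∨ orderOf x * orderOf y ∣ o := by
  rw [← hxy.orderOf_mul_eq_mul_orderOf_of_coprime hco]
  exact h.spec _

/-- An element commuting with one whose order is a nontrivial divisor of `e` has order prime to
`p` and `o`. -/
theorem not_dvd_card_centralizer_e (h : Hyp G p q e o) [Finite G] {y : G} (hy : orderOf y ∣ e)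
    (hy1 : y ≠ 1) {r : ℕ} (hr : r.Prime) (hre : ¬ r ∣ e) :
    ¬ r ∣ Nat.card (Subgroup.centralizer ({y} : Set G)) := by
  intro hd
  haveI : Fact r.Prime := ⟨hr⟩
  obtain ⟨z, hz⟩ := exists_prime_orderOf_dvd_card' r hd
  have hzy : Commute (z : G) y := Subgroup.mem_centralizer_singleton_iff.1 z.2
  have hzo : orderOf (z : G) = r := by rw [Subgroup.orderOf_coe, hz]
  have hy0 : orderOf y ≠ 1 := fun h' => hy1 (orderOf_eq_one_iff.1 h')
  have hco : (orderOf (z : G)).Coprime (orderOf y) := by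
    rw [hzo, hr.coprime_iff_not_dvd]
    exact fun h' => hre (h'.trans hy)
  rcases h.commute_cases hzy hco with h1 | h1 | h1 <;> rw [hzo] at h1
  · rcases Nat.prime_mul_iff.1 (h1 ▸ h.hp) with ⟨-, h2⟩ | ⟨-, h2⟩
    · exact hy0 h2
    · exact hr.ne_one h2
  · exact hre (dvd_of_mul_right_dvd h1)
  · have : orderOf y ∣ 1 := by
      have h2 := Nat.dvd_gcd hy (dvd_of_mul_left_dvd h1)
      rwa [h.coprime_e_o.gcd_eq_one] at h2
    exact hy0 (Nat.dvd_one.1 this)

theorem not_dvd_card_centralizer_o (h : Hyp G p q e o) [Finite G] {y : G} (hy : orderOf y ∣ o)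
    (hy1 : y ≠ 1) {r : ℕ} (hr : r.Prime) (hro : ¬ r ∣ o) :
    ¬ r ∣ Nat.card (Subgroup.centralizer ({y} : Set G)) := by
  intro hd
  haveI : Fact r.Prime := ⟨hr⟩
  obtain ⟨z, hz⟩ := exists_prime_orderOf_dvd_card' r hd
  have hzy : Commute (z : G) y := Subgroup.mem_centralizer_singleton_iff.1 z.2
  have hzo : orderOf (z : G) = r := by rw [Subgroup.orderOf_coe, hz]
  have hy0 : orderOf y ≠ 1 := fun h' => hy1 (orderOf_eq_one_iff.1 h')
  have hco : (orderOf (z : G)).Coprime (orderOf y) := by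
    rw [hzo, hr.coprime_iff_not_dvd]
    exact fun h' => hro (h'.trans hy)
  rcases h.commute_cases hzy hco with h1 | h1 | h1 <;> rw [hzo] at h1
  · rcases Nat.prime_mul_iff.1 (h1 ▸ h.hp) with ⟨-, h2⟩ | ⟨-, h2⟩
    · exact hy0 h2
    · exact hr.ne_one h2
  · have : orderOf y ∣ 1 := by
      have h2 := Nat.dvd_gcd (dvd_of_mul_left_dvd h1) hy
      rwa [h.coprime_e_o.gcd_eq_one] at h2
    exact hy0 (Nat.dvd_one.1 this)
  · exact hro (dvd_of_mul_right_dvd h1)

theorem card_centralizer_dvd_e (h : Hyp G p q e o) [Finite G] {y : G} (hy : orderOf y ∣ e)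
    (hy1 : y ≠ 1) : Nat.card (Subgroup.centralizer ({y} : Set G)) ∣ 2 * e := by
  have hd := Subgroup.card_subgroup_dvd_card (Subgroup.centralizer ({y} : Set G))
  rw [h.card, show 2 * (q * e * o) = q * o * (2 * e) by ring] at hd
  refine Nat.Coprime.dvd_of_dvd_mul_left ?_ hd
  refine Nat.coprime_of_dvd fun r hr hr1 hr2 => h.not_dvd_card_centralizer_e hy hy1 hr (fun hre => ?_) hr1
  have hco : Nat.Coprime e (q * o) := h.coprime_q.1.symm.mul_right h.coprime_e_o
  exact hr.not_dvd_one (hco.gcd_eq_one ▸ Nat.dvd_gcd hre hr2)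

theorem card_centralizer_dvd_o (h : Hyp G p q e o) [Finite G] {y : G} (hy : orderOf y ∣ o)
    (hy1 : y ≠ 1) : Nat.card (Subgroup.centralizer ({y} : Set G)) ∣ o := by
  have hd := Subgroup.card_subgroup_dvd_card (Subgroup.centralizer ({y} : Set G))
  rw [h.card, ← mul_assoc] at hd
  refine Nat.Coprime.dvd_of_dvd_mul_left ?_ hd
  refine Nat.coprime_of_dvd fun r hr hr1 hr2 => h.not_dvd_card_centralizer_o hy hy1 hr (fun hro => ?_) hr1
  have hco : Nat.Coprime o (2 * (q * e)) := by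
    refine Nat.Coprime.mul_right (Nat.coprime_two_right.2 h.ho) ?_
    exact h.coprime_q.2.symm.mul_right h.coprime_e_o.symm
  exact hr.not_dvd_one (hco.gcd_eq_one ▸ Nat.dvd_gcd hro hr2)

theorem centralizer_isPGroup (h : Hyp G p q e o) [Finite G] {x : G} (hx : orderOf x = p)
    (c : Subgroup.centralizer ({x} : Set G)) : ∃ k : ℕ, orderOf (c : G) = p ^ k := by
  rcases h.spec (c : G) with h1 | h1 | h1
  · exact ⟨1, by rw [h1, pow_one]⟩
  all_goals
    refine ⟨0, ?_⟩
    rw [pow_zero]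
    by_contra hne
    obtain ⟨r, hr, hrd⟩ := Nat.exists_prime_and_dvd hne
    have hcx : Commute ((c : G) ^ (orderOf (c : G) / r)) x :=
      Commute.pow_left (Subgroup.mem_centralizer_singleton_iff.1 c.2) _
    have hor : orderOf ((c : G) ^ (orderOf (c : G) / r)) = r :=
      orderOf_pow_orderOf_div (orderOf_pos (c : G)).ne' hrd
    have hrp : r ≠ p := by
      rintro rfl
      first
        | exact hr.not_dvd_one (h.coprime_p.1.gcd_eq_one ▸ Nat.dvd_gcd dvd_rfl (hrd.trans h1))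
        | exact hr.not_dvd_one (h.coprime_p.2.gcd_eq_one ▸ Nat.dvd_gcd dvd_rfl (hrd.trans h1))
    have hco : (orderOf ((c : G) ^ (orderOf (c : G) / r))).Coprime (orderOf x) := by
      rw [hor, hx, Nat.coprime_primes hr h.hp]
      exact hrp
    rcases h.commute_cases hcx hco with h2 | h2 | h2 <;> rw [hor, hx] at h2
    · exact hr.ne_one (Nat.eq_of_mul_eq_mul_right h.hp.pos (h2.trans (one_mul p).symm))
    · exact h.hp.not_dvd_one (h.coprime_p.1.gcd_eq_one ▸
        Nat.dvd_gcd dvd_rfl (dvd_of_mul_left_dvd h2))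
    · exact h.hp.not_dvd_one (h.coprime_p.2.gcd_eq_one ▸
        Nat.dvd_gcd dvd_rfl (dvd_of_mul_left_dvd h2))

theorem no_two_p (h : Hyp G p q e o) (g : G) : orderOf g ≠ 2 * p := by
  intro hg
  rcases h.spec g with h1 | h1 | h1 <;> rw [hg] at h1
  · have := h.hp.pos; omega
  · exact h.hp.not_dvd_one (h.coprime_p.1.gcd_eq_one ▸ Nat.dvd_gcd dvd_rfl (dvd_of_mul_left_dvd h1))
  · exact h.hp.not_dvd_one (h.coprime_p.2.gcd_eq_one ▸ Nat.dvd_gcd dvd_rfl (dvd_of_mul_left_dvd h1))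

end Hyp

/-- An element of prime order `r` is conjugate into a cyclic subgroup containing a full Sylow
`r`-subgroup. -/
theorem exists_conj_mem_zpowers [Finite G] {r : ℕ} [hr : Fact r.Prime] {x y : G}
    (hy : orderOf y = r) (hfull : ¬ r ∣ (Subgroup.zpowers x).index) :
    ∃ g : G, g * y * g⁻¹ ∈ Subgroup.zpowers x := by
  obtain ⟨R0⟩ : Nonempty (Sylow r (Subgroup.zpowers x)) := inferInstance
  let R : Subgroup G := (R0 : Subgroup (Subgroup.zpowers x)).map (Subgroup.zpowers x).subtype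
  have hRi : ¬ r ∣ R.index := by
    rw [show R.index = (R0 : Subgroup (Subgroup.zpowers x)).index * (Subgroup.zpowers x).index by
      rw [Subgroup.index_map_subtype]]
    exact fun h => (hr.out.dvd_mul.1 h).elim R0.not_dvd_index hfull
  have hRp : IsPGroup r R := R0.isPGroup'.map _
  let RS : Sylow r G := hRp.toSylow hRi
  have hyp : IsPGroup r (Subgroup.zpowers y) :=
    IsPGroup.of_card (n := 1) (by rw [Nat.card_zpowers, hy, pow_one])
  obtain ⟨S, hS⟩ := hyp.exists_le_sylow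
  obtain ⟨g, hg⟩ := MulAction.exists_smul_eq G S RS
  refine ⟨g, ?_⟩
  have h1 : g * y * g⁻¹ ∈ (RS : Subgroup G) := by
    rw [← hg, Sylow.coe_subgroup_smul]
    exact Subgroup.mem_map_of_mem _ (hS (Subgroup.mem_zpowers y))
  rw [IsPGroup.toSylow_coe] at h1
  exact Subgroup.map_subtype_le _ h1

end Cfsg.Agent.Lib.PSLSpectrum
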