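import Cfsg.Agent.Lib.PSLSpectrum.Basic
import Cfsg.Agent.Lib.Involution.Basic

/-!
The centraliser of an involution and the conjugacy of the semisimple elements in a group with the
order and element orders of `PSL₂(q)`.
-/

set_option autoImplicit false

namespace Cfsg.Agent.Lib.PSLSpectrum

open Cfsg.Agent.Lib

variable {G : Type*} [Group G] [Finite G] {p q e o : ℕ}

/-- In a group containing a cyclic subgroup of index at most two, that subgroup contains all squares,
is normalised, and contains the product of two elements outside it. -/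
theorem sub_two {a : G} {C : Subgroup G} (haC : Subgroup.zpowers a ≤ C)
    (hdvd : Nat.card C ∣ 2 * orderOf a) {c : G} (hc : c ∈ C) :
    c * c ∈ Subgroup.zpowers a ∧
      (∀ k ∈ Subgroup.zpowers a, c * k * c⁻¹ ∈ Subgroup.zpowers a) ∧
      ∀ d ∈ C, c ∉ Subgroup.zpowers a → d ∉ Subgroup.zpowers a → c * d ∈ Subgroup.zpowers a := by
  set K := (Subgroup.zpowers a).subgroupOf C with hK
  have hcard : Nat.card K = orderOf a := by
    rw [hK, Nat.card_congr (Subgroup.subgroupOfEquivOfLe haC).toEquiv, Nat.card_zpowers]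
  have hidx : K.index ∣ 2 := by
    refine Nat.dvd_of_mul_dvd_mul_left (orderOf_pos a) ?_
    rw [← hcard, Subgroup.card_mul_index, hcard]
    rwa [mul_comm]
  rcases (Nat.dvd_prime Nat.prime_two).1 hidx with h1 | h2
  · have hall : ∀ d ∈ C, d ∈ Subgroup.zpowers a := fun d hd => by
      have hd' : (⟨d, hd⟩ : C) ∈ K := by
        rw [Subgroup.index_eq_one.1 h1]
        exact Subgroup.mem_top _
      exact hd'
    exact ⟨hall _ (C.mul_mem hc hc),
      fun k hk => hall _ (C.mul_mem (C.mul_mem hc (haC hk)) (C.inv_mem hc)),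
      fun d hd hcn _ => absurd (hall c hc) hcn⟩
  · haveI : K.Normal := Subgroup.normal_of_index_eq_two h2
    refine ⟨?_, fun k hk => ?_, fun d hd hcn hdn => ?_⟩
    · exact Subgroup.mul_self_mem_of_index_two h2 (⟨c, hc⟩ : C)
    · exact (inferInstance : K.Normal).conj_mem (⟨k, haC hk⟩ : C) hk (⟨c, hc⟩ : C)
    · exact (Subgroup.mul_mem_iff_of_index_two h2 (a := (⟨c, hc⟩ : C)) (b := ⟨d, hd⟩)).2
        (iff_of_false hcn hdn)

namespace Hyp

theorem exists_conj_zpowers_o (h : Hyp G p q e o) {x2 y : G} (hx2 : orderOf x2 = o)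
    (hy : orderOf y ∣ o) (hy1 : y ≠ 1) : ∃ g : G, g * y * g⁻¹ ∈ Subgroup.zpowers x2 := by
  obtain ⟨r, hr, hry⟩ := Nat.exists_prime_and_dvd (fun hh => hy1 (orderOf_eq_one_iff.1 hh))
  haveI : Fact r.Prime := ⟨hr⟩
  set z := y ^ (orderOf y / r) with hz
  have hzr : orderOf z = r := orderOf_pow_orderOf_div (orderOf_pos y).ne' hry
  have hro : r ∣ o := hry.trans hy
  have hidx : (Subgroup.zpowers x2).index = 2 * (q * e) := by
    have hci := Subgroup.card_mul_index (Subgroup.zpowers x2)
    rw [Nat.card_zpowers, hx2, h.card] at hci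
    exact Nat.eq_of_mul_eq_mul_left (by have := h.o_gt; omega) (hci.trans (by ring))
  have hfull : ¬ r ∣ (Subgroup.zpowers x2).index := by
    rw [hidx]
    intro hd
    have hco : Nat.Coprime o (2 * (q * e)) :=
      (Nat.coprime_two_right.2 h.ho).mul_right
        (h.coprime_q.2.symm.mul_right h.coprime_e_o.symm)
    exact hr.not_dvd_one (hco.gcd_eq_one ▸ Nat.dvd_gcd hro hd)
  obtain ⟨g, hg⟩ := exists_conj_mem_zpowers hzr hfull
  refine ⟨g, ?_⟩
  set w := g * z * g⁻¹ with hw
  have hwo : orderOf w = r := by rw [hw, Involution.orderOf_conj_eq, hzr]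
  have hle : Subgroup.zpowers x2 ≤ Subgroup.centralizer ({w} : Set G) := by
    intro k hk
    obtain ⟨i, rfl⟩ := hk
    obtain ⟨j, hj⟩ := hg
    rw [Subgroup.mem_centralizer_singleton_iff, ← hj]
    exact (Commute.refl x2).zpow_zpow i j
  have hdvd := h.card_centralizer_dvd_o (hwo ▸ hro : orderOf w ∣ o)
    (fun hh => hr.ne_one (by rw [← hwo, hh, orderOf_one]))
  have heq : Subgroup.zpowers x2 = Subgroup.centralizer ({w} : Set G) := by
    refine Subgroup.eq_of_le_of_card_ge hle ?_
    rw [Nat.card_zpowers, hx2]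
    exact Nat.le_of_dvd (by have := h.o_gt; omega) hdvd
  rw [heq, Subgroup.mem_centralizer_singleton_iff, hw, hz]
  calc g * y * g⁻¹ * (g * y ^ (orderOf y / r) * g⁻¹)
      = g * (y * y ^ (orderOf y / r)) * g⁻¹ := by group
    _ = g * (y ^ (orderOf y / r) * y) * g⁻¹ := by rw [(Commute.self_pow y _).eq]
    _ = g * y ^ (orderOf y / r) * g⁻¹ * (g * y * g⁻¹) := by group

theorem le_centralizer_of_mem {x1 u : G} (hu : u ∈ Subgroup.zpowers x1) :
    Subgroup.zpowers x1 ≤ Subgroup.centralizer ({u} : Set G) := by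
  intro k hk
  obtain ⟨i, rfl⟩ := hk
  obtain ⟨j, hj⟩ := hu
  rw [Subgroup.mem_centralizer_singleton_iff, ← hj]
  exact (Commute.refl x1).zpow_zpow i j

theorem card_centralizer_dvd (h : Hyp G p q e o) {x1 u : G} (hx1 : orderOf x1 = e)
    (hu : u ∈ Subgroup.zpowers x1) (hu1 : u ≠ 1) :
    Nat.card (Subgroup.centralizer ({u} : Set G)) ∣ 2 * orderOf x1 := by
  rw [hx1]
  refine h.card_centralizer_dvd_e ?_ hu1
  rw [← hx1, ← Nat.card_zpowers x1]
  exact Subgroup.orderOf_dvd_natCard _ hu

/-- The distinguished involution of the cyclic subgroup of order `e`. -/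
theorem orderOf_half (h : Hyp G p q e o) {x1 : G} (hx1 : orderOf x1 = e) :
    orderOf (x1 ^ (e / 2)) = 2 := by
  rw [← hx1]
  exact Involution.orderOf_half_pow (hx1 ▸ h.he)

theorem centralizer_le_half (h : Hyp G p q e o) {x1 u : G} (hx1 : orderOf x1 = e)
    (hu : u ∈ Subgroup.zpowers x1) (hu1 : u ≠ 1) :
    Subgroup.centralizer ({u} : Set G) ≤ Subgroup.centralizer ({x1 ^ (e / 2)} : Set G) := by
  intro c hc
  obtain ⟨-, hn, -⟩ := sub_two (le_centralizer_of_mem hu) (h.card_centralizer_dvd hx1 hu hu1) hc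
  have hmem : x1 ^ (e / 2) ∈ Subgroup.zpowers x1 := pow_mem (Subgroup.mem_zpowers x1) _
  have ht := h.orderOf_half hx1
  have heq := Involution.eq_of_mem_zpowers (by rw [Involution.orderOf_conj_eq]; exact ht) ht
    (hn _ hmem) hmem
  rw [Subgroup.mem_centralizer_singleton_iff]
  nth_rewrite 2 [← heq]
  group

theorem mem_of_odd (h : Hyp G p q e o) {x1 u w : G} (hx1 : orderOf x1 = e)
    (hu : u ∈ Subgroup.zpowers x1) (hu1 : u ≠ 1)
    (hw : w ∈ Subgroup.centralizer ({u} : Set G)) (hodd : Odd (orderOf w)) :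
    w ∈ Subgroup.zpowers x1 := by
  obtain ⟨hsq, -, -⟩ := sub_two (le_centralizer_of_mem hu) (h.card_centralizer_dvd hx1 hu hu1) hw
  obtain ⟨k, hk⟩ := hodd
  have : w = (w * w) ^ (k + 1) := by
    rw [← pow_two, ← pow_mul, show 2 * (k + 1) = (2 * k + 1) + 1 by ring, pow_succ, ← hk,
      pow_orderOf_eq_one, one_mul]
  rw [this]
  exact pow_mem hsq _

/-- An element whose order is a divisor of `e` that is not a power of two is conjugate into the
centraliser of the involution, and into the cyclic subgroup if its order is odd. -/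
theorem exists_conj_half (h : Hyp G p q e o) {x1 y : G} (hx1 : orderOf x1 = e)
    {r : ℕ} (hr : r.Prime) (hr2 : r ≠ 2) (hry : r ∣ orderOf y) (hye : orderOf y ∣ e) :
    ∃ g : G, g * y * g⁻¹ ∈ Subgroup.centralizer ({x1 ^ (e / 2)} : Set G) ∧
      (Odd (orderOf y) → g * y * g⁻¹ ∈ Subgroup.zpowers x1) := by
  haveI : Fact r.Prime := ⟨hr⟩
  set z := y ^ (orderOf y / r) with hz
  have hzr : orderOf z = r := orderOf_pow_orderOf_div (orderOf_pos y).ne' hry
  have hre : r ∣ e := hry.trans hye
  have hidx : (Subgroup.zpowers x1).index = 2 * (q * o) := by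
    have hci := Subgroup.card_mul_index (Subgroup.zpowers x1)
    rw [Nat.card_zpowers, hx1, h.card] at hci
    exact Nat.eq_of_mul_eq_mul_left (by have := h.e_pos; omega) (hci.trans (by ring))
  have hfull : ¬ r ∣ (Subgroup.zpowers x1).index := by
    rw [hidx]
    intro hd
    rcases hr.dvd_mul.1 hd with hd | hd
    · exact hr2 ((Nat.prime_dvd_prime_iff_eq hr Nat.prime_two).1 hd)
    · exact hr.not_dvd_one
        ((h.coprime_q.1.symm.mul_right h.coprime_e_o).gcd_eq_one ▸ Nat.dvd_gcd hre hd)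
  obtain ⟨g, hg⟩ := exists_conj_mem_zpowers hzr hfull
  have hne : g * z * g⁻¹ ≠ 1 := fun hh => hr.ne_one (by
    rw [← hzr, ← Involution.orderOf_conj_eq g z, hh, orderOf_one])
  have hmem : g * y * g⁻¹ ∈ Subgroup.centralizer ({g * z * g⁻¹} : Set G) := by
    rw [Subgroup.mem_centralizer_singleton_iff, hz]
    calc g * y * g⁻¹ * (g * y ^ (orderOf y / r) * g⁻¹)
        = g * (y * y ^ (orderOf y / r)) * g⁻¹ := by group
      _ = g * (y ^ (orderOf y / r) * y) * g⁻¹ := by rw [(Commute.self_pow y _).eq]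
      _ = g * y ^ (orderOf y / r) * g⁻¹ * (g * y * g⁻¹) := by group
  exact ⟨g, h.centralizer_le_half hx1 hg hne hmem,
    fun hodd => h.mem_of_odd hx1 hg hne hmem (by rwa [Involution.orderOf_conj_eq])⟩

/-- The centraliser of an involution has order dividing `2e`. -/
theorem card_centralizer_invol (h : Hyp G p q e o) {t : G} (ht : orderOf t = 2) :
    Nat.card (Subgroup.centralizer ({t} : Set G)) ∣ 2 * e :=
  h.card_centralizer_dvd_e (ht ▸ h.he.two_dvd) (Involution.ne_one ht)

theorem card_centralizer_half (h : Hyp G p q e o) {x1 : G} (hx1 : orderOf x1 = e) :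
    Nat.card (Subgroup.centralizer ({x1 ^ (e / 2)} : Set G)) = e ∨
      Nat.card (Subgroup.centralizer ({x1 ^ (e / 2)} : Set G)) = 2 * e := by
  have hle := Subgroup.card_dvd_of_le
    (le_centralizer_of_mem (x1 := x1) (pow_mem (Subgroup.mem_zpowers x1) (e / 2)))
  rw [Nat.card_zpowers, hx1] at hle
  obtain ⟨c, hc⟩ := hle
  have hd := h.card_centralizer_invol (h.orderOf_half hx1)
  rw [hc, mul_comm 2 e] at hd
  rcases (Nat.dvd_prime Nat.prime_two).1
    (Nat.dvd_of_mul_dvd_mul_left (by have := h.e_pos; omega) hd) with rfl | rfl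
  · exact Or.inl (by rw [hc, mul_one])
  · exact Or.inr (by rw [hc, mul_comm])

end Hyp

end Cfsg.Agent.Lib.PSLSpectrum
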