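import Cfsg.Agent.Lib.PSLSpectrum.Basic
import Cfsg.Agent.Lib.PSLSpectrum.Spectrum
import Cfsg.Agent.S0731
import Cfsg.Prelude.Def_LieExceptional

/-!
A group with the order and element orders of `PSL₂(q)`, `q` odd, whose Sylow `p`-subgroups are
abelian is a Zassenhaus group on them, hence isomorphic to `PSL₂(q)`.
-/

set_option autoImplicit false

namespace Cfsg.Agent.Lib.PSLSpectrum

open MulAction

variable {G : Type*} [Group G] [Finite G] {p q e o : ℕ} [Fact p.Prime]

theorem stab_eq (P : Sylow p G) :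
    stabilizer G P = Subgroup.normalizer ((P : Subgroup G) : Set G) :=
  P.stabilizer_eq_normalizer

namespace Hyp

theorem card_sylow_eq (h : Hyp G p q e o) (P : Sylow p G) : Nat.card (P : Subgroup G) = q := by
  obtain ⟨f, hf⟩ := h.hqp
  have hp := h.hp
  rw [P.card_eq_multiplicity, hf]
  congr 1
  have h2 : ¬ p ∣ 2 * (e * o) := fun hd => by
    rcases hp.dvd_mul.1 hd with h3 | h3
    · exact h.hp2 ((Nat.prime_dvd_prime_iff_eq hp Nat.prime_two).1 h3)
    · exact hp.not_dvd_one ((h.coprime_p.1.mul_right h.coprime_p.2).gcd_eq_one ▸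
        Nat.dvd_gcd dvd_rfl h3)
  rw [h.card, show 2 * (q * e * o) = p ^ f * (2 * (e * o)) by rw [hf]; ring]
  have := h.e_pos; have := h.o_gt
  rw [Nat.factorization_mul (pow_ne_zero _ hp.ne_zero) (by positivity), Finsupp.add_apply,
    Nat.factorization_eq_zero_of_not_dvd h2, hp.factorization_pow, Finsupp.single_eq_same, add_zero]

theorem orderOf_of_mem (h : Hyp G p q e o) (P : Sylow p G) {x : G} (hx : x ∈ (P : Subgroup G))
    (hx1 : x ≠ 1) : orderOf x = p := by
  obtain ⟨k, hk⟩ := IsPGroup.iff_orderOf.1 P.isPGroup' ⟨x, hx⟩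
  rw [Subgroup.orderOf_mk] at hk
  rcases h.spec x with h1 | h1 | h1
  · exact h1
  · exfalso
    refine hx1 (orderOf_eq_one_iff.1 ?_)
    rw [hk] at h1 ⊢
    exact Nat.eq_one_of_dvd_coprimes (h.coprime_p.1.pow_left k) dvd_rfl h1
  · exfalso
    refine hx1 (orderOf_eq_one_iff.1 ?_)
    rw [hk] at h1 ⊢
    exact Nat.eq_one_of_dvd_coprimes (h.coprime_p.2.pow_left k) dvd_rfl h1

/-- Every Sylow `p`-subgroup is the centraliser of each of its non-identity elements. -/
theorem centralizer_eq (h : Hyp G p q e o) (hab : ∀ Q : Sylow p G, IsMulCommutative (Q : Subgroup G))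
    (P : Sylow p G) {x : G} (hx : x ∈ (P : Subgroup G)) (hx1 : x ≠ 1) :
    Subgroup.centralizer ({x} : Set G) = (P : Subgroup G) := by
  refine P.is_maximal' ?_ ?_
  · refine IsPGroup.iff_orderOf.2 fun c => ?_
    obtain ⟨k, hk⟩ := h.centralizer_isPGroup (h.orderOf_of_mem P hx hx1) c
    exact ⟨k, by rw [← Subgroup.orderOf_coe, hk]⟩
  · intro y hy
    exact Subgroup.mem_centralizer_singleton_iff.2
      (congrArg Subtype.val ((hab P).is_comm.comm ⟨y, hy⟩ ⟨x, hx⟩))

theorem eq_one_of_mem_of_smul_eq (h : Hyp G p q e o)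
    (hab : ∀ Q : Sylow p G, IsMulCommutative (Q : Subgroup G)) {P Q : Sylow p G} (hPQ : Q ≠ P)
    {x : G} (hx : x ∈ (P : Subgroup G)) (hxQ : x • Q = Q) : x = 1 := by
  by_contra hx1
  have hxN : x ∈ Subgroup.normalizer ((Q : Subgroup G) : Set G) := by
    rw [← stab_eq]
    exact hxQ
  have hz : IsPGroup p (Subgroup.zpowers x) :=
    P.isPGroup'.to_le (Subgroup.zpowers_le.2 hx)
  have hmem : x ∈ Subgroup.zpowers x ⊓ (Q : Subgroup G) := by
    rw [← hz.inf_normalizer_sylow Q]
    exact ⟨Subgroup.mem_zpowers x, hxN⟩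
  refine hPQ (Sylow.ext ?_)
  rw [← h.centralizer_eq hab Q hmem.2 hx1, h.centralizer_eq hab P hx hx1]

/-- The number of Sylow subgroups is `q + 1`, any one is regular on the others, and the index of a
Sylow subgroup in its normaliser is half of `q - 1`. -/
theorem action_facts (h : Hyp G p q e o)
    (hab : ∀ Q : Sylow p G, IsMulCommutative (Q : Subgroup G)) (P : Sylow p G) :
    Nat.card (Sylow p G) = q + 1 ∧
      2 * ((P : Subgroup G).subgroupOf (stabilizer G P)).index + 1 = q ∧
      (∀ Q R : Sylow p G, Q ≠ P → R ≠ P → ∃! u : (P : Subgroup G), (u : G) • Q = R) := by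
  classical
  let α := {Q : Sylow p G // Q ≠ P}
  have hP : ∀ u : (P : Subgroup G), (u : G) • P = P := fun u => by
    have : (u : G) ∈ Subgroup.normalizer ((P : Subgroup G) : Set G) := Subgroup.le_normalizer u.2
    rwa [← stab_eq] at this
  let _ : MulAction (P : Subgroup G) α :=
    { smul := fun u Q => ⟨(u : G) • Q.1, fun hc => Q.2 (smul_left_cancel (u : G) (hc.trans (hP u).symm))⟩
      one_smul := fun Q => Subtype.ext (one_smul G Q.1)
      mul_smul := fun u v Q => Subtype.ext (mul_smul (u : G) (v : G) Q.1) }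
  have hval : ∀ (u : (P : Subgroup G)) (Q : α), (u • Q).1 = (u : G) • Q.1 := fun _ _ => rfl
  have hinj : ∀ Q : α, Function.Injective fun u : (P : Subgroup G) => u • Q := by
    intro Q u v huv
    have h1 : (u : G) • Q.1 = (v : G) • Q.1 := congrArg Subtype.val huv
    have h2 : ((v⁻¹ * u : (P : Subgroup G)) : G) = 1 :=
      h.eq_one_of_mem_of_smul_eq hab Q.2 (v⁻¹ * u : (P : Subgroup G)).2 (by
        rw [Subgroup.coe_mul, Subgroup.coe_inv, mul_smul, h1, inv_smul_smul])
    exact (inv_mul_eq_one.1 (Subtype.ext h2)).symm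
  have hsigma : Nat.card α = Nat.card (orbitRel.Quotient (P : Subgroup G) α) * q := by
    let _ := Fintype.ofFinite (orbitRel.Quotient (P : Subgroup G) α)
    rw [Nat.card_congr (selfEquivSigmaOrbits (P : Subgroup G) α), Nat.card_sigma]
    rw [Finset.sum_congr rfl (fun ω _ => show Nat.card (orbit (P : Subgroup G) ω.out) = q by
      rw [← h.card_sylow_eq P]
      exact (Nat.card_range_of_injective (hinj ω.out)))]
    rw [Finset.sum_const, Finset.card_univ, smul_eq_mul, Nat.card_eq_fintype_card]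
  have hn : Nat.card (Sylow p G) = Nat.card α + 1 := by
    have := Nat.card_congr (Equiv.sumCompl (fun Q : Sylow p G => Q = P))
    rw [← this, Nat.card_sum, Nat.card_unique (α := {Q : Sylow p G // Q = P}), add_comm]
  -- the normaliser acts on the non-identity elements of `P`
  have hq := h.hq
  obtain ⟨x, hx1⟩ : ∃ x : (P : Subgroup G), x ≠ 1 := by
    have : Nontrivial (P : Subgroup G) := Finite.one_lt_card_iff_nontrivial.1 (by
      rw [h.card_sylow_eq P]; omega)
    exact exists_ne 1
  have hx1' : (x : G) ≠ 1 := fun hc => hx1 (Subtype.ext hc)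
  set N := stabilizer G P with hN
  have hPN : (P : Subgroup G) ≤ N := fun u hu => hP ⟨u, hu⟩
  set m := ((P : Subgroup G).subgroupOf N).index with hm
  have hmle : m + 1 ≤ q := by
    have hmem : ∀ g : N, (g : G) * x * (g : G)⁻¹ ∈ (P : Subgroup G) := fun g => by
      have hg : (g : G) ∈ Subgroup.normalizer ((P : Subgroup G) : Set G) := by
        rw [← stab_eq]; exact g.2
      exact (Subgroup.mem_normalizer_iff.1 hg x).1 x.2
    let φ : N ⧸ (P : Subgroup G).subgroupOf N → {y : (P : Subgroup G) // y ≠ 1} :=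
      Quotient.lift (fun g => ⟨⟨(g : G) * x * (g : G)⁻¹, hmem g⟩, fun hc => hx1' (by
          simpa using congrArg Subtype.val hc)⟩) (by
        intro a b hab'
        have h2 : (a : G)⁻¹ * b ∈ (P : Subgroup G) := by
          have := (QuotientGroup.leftRel_apply.1 hab')
          simpa [Subgroup.mem_subgroupOf] using this
        rw [← h.centralizer_eq hab P x.2 hx1'] at h2
        have h3 := Subgroup.mem_centralizer_singleton_iff.1 h2
        refine Subtype.ext (Subtype.ext ?_)
        change (a : G) * x * (a : G)⁻¹ = (b : G) * x * (b : G)⁻¹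
        calc (a : G) * x * (a : G)⁻¹ = a * (((a : G)⁻¹ * b) * x * ((a : G)⁻¹ * b)⁻¹) * (a : G)⁻¹ := by
              rw [h3]; group
          _ = (b : G) * x * (b : G)⁻¹ := by group)
    have hφ : Function.Injective φ := by
      intro a b
      induction a using Quotient.inductionOn with
      | h a =>
        induction b using Quotient.inductionOn with
        | h b =>
          intro hab'
          have h1 : (a : G) * x * (a : G)⁻¹ = (b : G) * x * (b : G)⁻¹ :=
            congrArg (fun z => ((z : {y : (P : Subgroup G) // y ≠ 1}).1 : G)) hab'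
          refine Quotient.sound (QuotientGroup.leftRel_apply.2 ?_)
          rw [Subgroup.mem_subgroupOf, Subgroup.coe_mul, Subgroup.coe_inv,
            ← h.centralizer_eq hab P x.2 hx1', Subgroup.mem_centralizer_singleton_iff]
          calc ((a : G)⁻¹ * b) * x = (a : G)⁻¹ * ((b : G) * x * (b : G)⁻¹) * b := by group
            _ = (a : G)⁻¹ * ((a : G) * x * (a : G)⁻¹) * b := by rw [h1]
            _ = (x : G) * ((a : G)⁻¹ * b) := by group
    have h1 := Nat.card_le_card_of_injective φ hφ
    have h2 : Nat.card {y : (P : Subgroup G) // y ≠ 1} + 1 = q := by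
      rw [← h.card_sylow_eq P, ← Nat.card_congr (Equiv.sumCompl (fun y : (P : Subgroup G) => y = 1)),
        Nat.card_sum, Nat.card_unique (α := {y : (P : Subgroup G) // y = 1}), add_comm]
    rw [hm, Subgroup.index]
    omega
  have hm0 : 0 < m := Nat.pos_of_ne_zero Subgroup.FiniteIndex.index_ne_zero
  have hcardN : Nat.card N = q * m := by
    rw [← Subgroup.card_mul_index ((P : Subgroup G).subgroupOf N),
      Nat.card_congr (Subgroup.subgroupOfEquivOfLe hPN).toEquiv, h.card_sylow_eq P]
  have hcount : Nat.card (Sylow p G) * (q * m) = 2 * (q * e * o) := by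
    rw [← h.card, ← hcardN, hN, P.card_eq_index_normalizer, mul_comm, stab_eq]
    exact Subgroup.card_mul_index _
  rw [hn, hsigma] at hcount
  set k := Nat.card (orbitRel.Quotient (P : Subgroup G) α) with hk
  have hsq : 4 * (e * o) + 1 = q * q := by
    rcases h.rel with ⟨rfl, rfl⟩ | ⟨h1, h2⟩
    · ring
    · obtain ⟨t, rfl⟩ : ∃ t, e = t + 1 := ⟨e - 1, by omega⟩
      obtain rfl : o = t := by omega
      obtain rfl : q = 2 * o + 1 := by omega
      ring
  have hkey : 2 * m * (k * q + 1) + 1 = q * q := by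
    have : (k * q + 1) * m = 2 * (e * o) :=
      Nat.eq_of_mul_eq_mul_left (show 0 < q by omega) (by rw [← mul_left_comm]; linarith [hcount])
    linarith
  have hdvd : q ∣ 2 * m + 1 := by
    have h1 : q ∣ q * (2 * m * k) + (2 * m + 1) := ⟨q, by rw [← hkey]; ring⟩
    exact (Nat.dvd_add_right (dvd_mul_right q _)).1 h1
  have h2m : 2 * m + 1 = q := by
    obtain ⟨c, hc⟩ := hdvd
    rcases Nat.lt_trichotomy c 1 with hc1 | hc1 | hc1
    · interval_cases c; omega
    · rw [hc, hc1, mul_one]
    · have : q * 2 ≤ q * c := Nat.mul_le_mul_left q hc1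
      omega
  have hk1 : k = 1 := by
    have h1 : q * (2 * m * k + 1) = q * q := by rw [← hkey]; nlinarith [h2m]
    have h2 := Nat.eq_of_mul_eq_mul_left (show 0 < q by omega) h1
    have h3 : 2 * m * k = 2 * m * 1 := by omega
    exact Nat.eq_of_mul_eq_mul_left (by omega) h3
  refine ⟨by rw [hn, hsigma, hk1, one_mul], h2m, fun Q R hQ hR => ?_⟩
  have hbij : Function.Bijective fun u : (P : Subgroup G) => u • (⟨Q, hQ⟩ : α) := by
    rw [Nat.bijective_iff_injective_and_card, hsigma, hk1, one_mul]
    exact ⟨hinj _, h.card_sylow_eq P⟩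
  obtain ⟨u, hu, huu⟩ := hbij.existsUnique ⟨R, hR⟩
  exact ⟨u, congrArg Subtype.val hu, fun v hv => huu v (Subtype.ext hv)⟩

/-- With abelian Sylow `p`-subgroups the group is `PSL₂(q)`. -/
theorem exists_psl_mulEquiv (h : Hyp G p q e o)
    (hab : ∀ Q : Sylow p G, IsMulCommutative (Q : Subgroup G)) :
    ∃ (K : Type) (_ : Field K) (_ : Fintype K), Fintype.card K = q ∧
      Nonempty (G ≃* Matrix.ProjectiveSpecialLinearGroup (Fin 2) K) := by
  classical
  obtain ⟨P⟩ : Nonempty (Sylow p G) := inferInstance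
  obtain ⟨hn, hm, -⟩ := h.action_facts hab P
  have hreg := fun P' : Sylow p G => (h.action_facts hab P').2.2
  have hq := h.hq
  have hst : ∀ P' : Sylow p G, (P' : Subgroup G) ≤ stabilizer G P' := fun P' => by
    rw [stab_eq]; exact Subgroup.le_normalizer
  obtain ⟨Q, hQ⟩ : ∃ Q : Sylow p G, Q ≠ P := by
    have : Nontrivial (Sylow p G) := Finite.one_lt_card_iff_nontrivial.1 (by omega)
    exact exists_ne P
  have hmove : ∀ a b : Sylow p G, a ≠ b → ∃ g : G, g • a = P ∧ g • b = Q := by
    intro a b hab'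
    obtain ⟨g, hg⟩ := exists_smul_eq G a P
    have hgb : g • b ≠ P := fun hc => hab' (smul_left_cancel g (hg.trans hc.symm))
    obtain ⟨u, hu, -⟩ := hreg P (g • b) Q hgb hQ
    exact ⟨u * g, by rw [mul_smul, hg]; exact hst P u.2, by rw [mul_smul]; exact hu⟩
  have h2 : IsMultiplyPretransitive G (Sylow p G) 2 := by
    rw [is_two_pretransitive_iff]
    intro a b c d hab' hcd
    obtain ⟨g, hga, hgb⟩ := hmove a b hab'
    obtain ⟨k, hkc, hkd⟩ := hmove c d hcd
    exact ⟨k⁻¹ * g, by rw [mul_smul, hga, ← hkc, inv_smul_smul],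
      by rw [mul_smul, hgb, ← hkd, inv_smul_smul]⟩
  have h3 : ∀ g : G, ∀ a b c : Sylow p G, a ≠ b → b ≠ c → a ≠ c →
      g • a = a → g • b = b → g • c = c → g = 1 := by
    intro g a b c hab' hbc hac ha hb hc
    obtain ⟨u, hu, huu⟩ := hreg a b c hab'.symm hac.symm
    have hgu : g * u * g⁻¹ ∈ (a : Subgroup G) := by
      have hgn : g ∈ Subgroup.normalizer ((a : Subgroup G) : Set G) := by
        rw [← stab_eq]; exact ha
      exact (Subgroup.mem_normalizer_iff.1 hgn u).1 u.2
    have h1 : (⟨g * u * g⁻¹, hgu⟩ : (a : Subgroup G)) = u := huu _ (by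
      change (g * u * g⁻¹) • b = c
      rw [mul_smul, mul_smul, inv_smul_eq_iff.2 hb.symm, hu, hc])
    have hu1 : (u : G) ≠ 1 := fun he => hbc (by rw [← hu, he, one_smul])
    have hgC : g ∈ Subgroup.centralizer ({(u : G)} : Set G) :=
      Subgroup.mem_centralizer_singleton_iff.2 (mul_inv_eq_iff_eq_mul.1 (congrArg Subtype.val h1))
    rw [h.centralizer_eq hab a u.2 hu1] at hgC
    exact h.eq_one_of_mem_of_smul_eq hab hab'.symm hgC hb
  have hcardN : (P : Subgroup G) < stabilizer G P := by
    refine lt_of_le_of_ne (hst P) fun he => ?_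
    have : ((P : Subgroup G).subgroupOf (stabilizer G P)).index = 1 := by
      rw [Subgroup.index_eq_one, Subgroup.subgroupOf_eq_top]
      exact he.ge
    omega
  have hfix : ∃ g : G, g ≠ 1 ∧ ∃ a b : Sylow p G, a ≠ b ∧ g • a = a ∧ g • b = b := by
    obtain ⟨g, hgN, hgP⟩ := SetLike.exists_of_lt hcardN
    have hgQ : g • Q ≠ P := fun hc => hQ (smul_left_cancel g (hc.trans hgN.symm))
    obtain ⟨u, hu, -⟩ := hreg P (g • Q) Q hgQ hQ
    refine ⟨u * g, fun hc => hgP ?_, P, Q, hQ.symm, ?_, by rw [mul_smul]; exact hu⟩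
    · rw [eq_inv_of_mul_eq_one_right hc]
      exact inv_mem u.2
    · rw [mul_smul, hgN]; exact hst P u.2
  have hN : ∀ N : Subgroup G, N.Normal → IsPretransitive N (Sylow p G) →
      ∃ a : Sylow p G, stabilizer N a ≠ ⊥ := by
    intro N hNn hNt
    by_contra hcon
    simp only [not_exists, not_not] at hcon
    have hNcard : Nat.card N = q + 1 := by
      rw [← hn]
      refine Nat.card_congr (Equiv.ofBijective (fun u : N => u • P) ⟨fun u v huv => ?_, fun R => ?_⟩)
      · have : v⁻¹ * u ∈ stabilizer N P := by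
          rw [mem_stabilizer_iff, mul_smul, show u • P = v • P from huv, inv_smul_smul]
        rw [hcon P, Subgroup.mem_bot, inv_mul_eq_one] at this
        exact this.symm
      · exact MulAction.exists_smul_eq N P R
    -- `P` permutes the non-identity elements of `N` regularly
    have hfree : ∀ x ∈ (P : Subgroup G), ∀ u ∈ N, u ≠ 1 → x * u = u * x → x = 1 := by
      intro x hx u hu hu1 hxu
      by_contra hx1
      have huP : u ∈ (P : Subgroup G) := by
        rw [← h.centralizer_eq hab P hx hx1]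
        exact Subgroup.mem_centralizer_singleton_iff.2 hxu.symm
      have : (⟨u, hu⟩ : N) ∈ stabilizer N P := hst P huP
      rw [hcon P, Subgroup.mem_bot] at this
      exact hu1 (congrArg Subtype.val this)
    haveI := hNn
    obtain ⟨k2, hk2⟩ : 2 ∣ q + 1 := by
      rcases h.rel with ⟨h1, -⟩ | ⟨h1, -⟩ <;> omega
    haveI : Fact (Nat.Prime 2) := ⟨Nat.prime_two⟩
    obtain ⟨v, hv⟩ := exists_prime_orderOf_dvd_card' (G := N) 2 (hNcard ▸ ⟨k2, hk2⟩)
    have hv1 : (v : G) ≠ 1 := fun hc => by
      rw [show v = 1 from Subtype.ext hc, orderOf_one] at hv; omega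
    have hexp : ∀ w : N, w ^ 2 = 1 := by
      let f : ↥(P : Subgroup G) → {w : N // w ≠ 1} := fun x =>
        ⟨⟨(x : G) * v * (x : G)⁻¹, hNn.conj_mem _ v.2 _⟩, fun hc => hv1 (by
          simpa using congrArg Subtype.val hc)⟩
      have hfinj : Function.Injective f := by
        intro x y hxy
        have h1 : (x : G) * v * (x : G)⁻¹ = (y : G) * v * (y : G)⁻¹ :=
          congrArg (fun z => ((z : {w : N // w ≠ 1}).1 : G)) hxy
        have h2 : ((y⁻¹ * x : (P : Subgroup G)) : G) = 1 :=
          hfree _ (y⁻¹ * x : (P : Subgroup G)).2 v v.2 hv1 (by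
            rw [Subgroup.coe_mul, Subgroup.coe_inv]
            calc (y : G)⁻¹ * x * v = (y : G)⁻¹ * ((x : G) * v * (x : G)⁻¹) * x := by group
              _ = (v : G) * ((y : G)⁻¹ * x) := by rw [h1]; group)
        exact (inv_mul_eq_one.1 (Subtype.ext h2)).symm
      have hsurj : Function.Bijective f := by
        rw [Nat.bijective_iff_injective_and_card]
        refine ⟨hfinj, ?_⟩
        have := Nat.card_congr (Equiv.sumCompl (fun w : N => w = 1))
        rw [Nat.card_sum, Nat.card_unique (α := {w : N // w = 1}), hNcard] at this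
        rw [h.card_sylow_eq P]
        change q = Nat.card {w : N // ¬ w = 1}
        omega
      intro w
      by_cases hw : w = 1
      · rw [hw, one_pow]
      obtain ⟨x, hx⟩ := hsurj.2 ⟨w, hw⟩
      have hwe : (w : G) = (x : G) * v * (x : G)⁻¹ :=
        (congrArg (fun z => ((z : {w : N // w ≠ 1}).1 : G)) hx).symm
      apply Subtype.ext
      rw [SubmonoidClass.coe_pow, hwe, conj_pow, ← SubmonoidClass.coe_pow, ← hv, pow_orderOf_eq_one]
      simp
    obtain ⟨s, hs⟩ := (IsPGroup.iff_card (p := 2) (G := N)).1 fun w => ⟨1, by rw [pow_one]; exact hexp w⟩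
    rw [hNcard] at hs
    rcases h.rel with ⟨h1, h2'⟩ | ⟨h1, h2'⟩
    · -- `q + 1` would be twice an odd number
      obtain ⟨t, ht⟩ := h.ho
      have hs2 : 2 ≤ s := by
        by_contra hlt
        interval_cases s <;> omega
      have : 4 ∣ q + 1 := hs ▸ pow_dvd_pow 2 hs2
      omega
    · obtain ⟨x₁, hx₁⟩ := h.exE
      have hindex : N.index = q * o := by
        refine Nat.eq_of_mul_eq_mul_left (show 0 < q + 1 by omega) ?_
        rw [← hNcard, N.card_mul_index, h.card, hNcard, h1]
        ring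
      have hx1N : x₁ ∈ N := by
        rw [← QuotientGroup.eq_one_iff, ← orderOf_eq_one_iff]
        refine Nat.eq_one_of_dvd_coprimes (h.coprime_q.1.mul_left h.coprime_e_o.symm) ?_
          (hx₁ ▸ orderOf_map_dvd (QuotientGroup.mk' N) x₁)
        rw [← hindex]
        exact orderOf_dvd_natCard _
      have : e ∣ 2 := by
        rw [← hx₁]
        refine orderOf_dvd_of_pow_eq_one ?_
        exact congrArg Subtype.val (hexp ⟨x₁, hx1N⟩)
      have := Nat.le_of_dvd two_pos this
      omega
  have hZ : Cfsg.IsZassenhausGroup G (Sylow p G) := by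
    refine ⟨⟨fun {g k} hgk => ?_⟩, h2, h3, hfix, hN⟩
    obtain ⟨R, hRP, hRQ⟩ : ∃ R : Sylow p G, R ≠ P ∧ R ≠ Q := by
      by_contra hcon
      have : Nat.card (Sylow p G) ≤ 2 := by
        rw [← Nat.card_congr (Equiv.Set.univ (Sylow p G))]
        refine le_trans (Nat.card_mono (Set.toFinite ({P, Q} : Set (Sylow p G))) fun R _ => ?_) ?_
        · simp only [not_exists, not_and, not_not] at hcon
          by_cases hR : R = P
          · exact Or.inl hR
          · exact Or.inr (hcon R hR)
        · rw [Nat.card_coe_set_eq]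
          exact (Set.ncard_insert_le _ _).trans (by rw [Set.ncard_singleton])
      omega
    have : k⁻¹ * g = 1 := h3 _ P Q R hQ.symm hRQ.symm hRP.symm
      (by rw [mul_smul, hgk, inv_smul_smul]) (by rw [mul_smul, hgk, inv_smul_smul])
      (by rw [mul_smul, hgk, inv_smul_smul])
    rw [inv_mul_eq_one] at this
    exact this.symm
  have hnorm : ((P : Subgroup G).subgroupOf (stabilizer G P)).Normal := by
    rw [stab_eq]
    exact Subgroup.normal_in_normalizer
  rcases Cfsg.Agent.S0731.result hZ P (P : Subgroup G) (hst P) hnorm (hab P) (hreg P) with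
    ⟨h3t, -⟩ | ⟨K, iK, iF, hchar, ⟨φ⟩⟩
  · exfalso
    let β := {R : Sylow p G // R ≠ P ∧ R ≠ Q}
    have hβ : q ≤ Nat.card β + 1 := by
      have h1 : Nat.card β = (({P, Q} : Set (Sylow p G))ᶜ).ncard := by
        rw [← Nat.card_coe_set_eq]
        exact Nat.card_congr (Equiv.subtypeEquivRight fun R => by simp [not_or])
      have h2' := Set.ncard_add_ncard_compl ({P, Q} : Set (Sylow p G))
      rw [Set.ncard_pair hQ.symm, ← h1, hn] at h2'
      omega
    obtain ⟨R₀⟩ : Nonempty β := Finite.card_pos_iff.1 (by omega)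
    have hget : ∀ R : β, ∃ g : G, g • P = P ∧ g • Q = Q ∧ g • R₀.1 = R.1 := by
      intro R
      let emb : β → (Fin 3 ↪ Sylow p G) := fun S => ⟨![P, Q, S.1], by
        intro i j hij
        fin_cases i <;> fin_cases j <;> simp_all [hQ.symm, S.2.1, S.2.2, Ne.symm S.2.1, Ne.symm S.2.2]⟩
      obtain ⟨g, hg⟩ := h3t.exists_smul_eq (emb R₀) (emb R)
      refine ⟨g, ?_, ?_, ?_⟩
      · exact congrArg (fun t : Fin 3 ↪ Sylow p G => t 0) hg
      · exact congrArg (fun t : Fin 3 ↪ Sylow p G => t 1) hg
      · exact congrArg (fun t : Fin 3 ↪ Sylow p G => t 2) hg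
    choose g hgP hgQ hgR using hget
    let f : β → stabilizer G P ⧸ (P : Subgroup G).subgroupOf (stabilizer G P) :=
      fun R => QuotientGroup.mk ⟨g R, hgP R⟩
    have hf : Function.Injective f := by
      intro R S hRS
      have h1 : (g R)⁻¹ * g S ∈ (P : Subgroup G) := by
        simpa [f, Subgroup.mem_subgroupOf] using QuotientGroup.eq.1 hRS
      have h2' : ((g R)⁻¹ * g S) • Q = Q := by rw [mul_smul, hgQ, inv_smul_eq_iff, hgQ]
      have h4 := h.eq_one_of_mem_of_smul_eq hab hQ h1 h2'
      rw [inv_mul_eq_one] at h4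
      exact Subtype.ext (by rw [← hgR R, ← hgR S, h4])
    have := Nat.card_le_card_of_injective f hf
    rw [← Subgroup.index] at this
    omega
  · refine ⟨K, iK, iF, ?_, ⟨φ⟩⟩
    have hodd : Odd (Fintype.card K) := Nat.odd_iff.2 (FiniteField.odd_card_of_char_ne_two hchar)
    have hc := card_psl_odd hodd
    rw [← Nat.card_congr φ.toEquiv, h.card] at hc
    have hsq : 4 * (e * o) + 1 = q * q := by
      rcases h.rel with ⟨rfl, rfl⟩ | ⟨h1, h2⟩
      · ring
      · obtain ⟨t, rfl⟩ : ∃ t, e = t + 1 := ⟨e - 1, by omega⟩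
        obtain rfl : o = t := by omega
        obtain rfl : q = 2 * o + 1 := by omega
        ring
    obtain ⟨a, ha⟩ : ∃ a, Fintype.card K = a + 1 := ⟨Fintype.card K - 1, by
      have := Fintype.card_pos (α := K); omega⟩
    rw [ha, Nat.add_sub_cancel] at hc
    rw [ha]
    obtain ⟨b, rfl⟩ : ∃ b, q = b + 1 := ⟨q - 1, by omega⟩
    have h4 : (b + 1) * ((b + 1 + 1) * b) = (a + 1) * ((a + 1 + 1) * a) := by
      have : 4 * (e * o) = (b + 1 + 1) * b := by nlinarith [hsq]
      rw [← hc, ← this]
      ring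
    rcases Nat.lt_trichotomy a b with hlt | heq | hgt
    · exfalso
      have : (a + 1) * ((a + 1 + 1) * a) < (b + 1) * ((b + 1 + 1) * b) :=
        Nat.mul_lt_mul'' (by omega) (Nat.mul_lt_mul'' (by omega) hlt)
      omega
    · rw [heq]
    · exfalso
      have : (b + 1) * ((b + 1 + 1) * b) < (a + 1) * ((a + 1 + 1) * a) :=
        Nat.mul_lt_mul'' (by omega) (Nat.mul_lt_mul'' (by omega) hgt)
      omega

end Hyp

end Cfsg.Agent.Lib.PSLSpectrum
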